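import Groth.Agent.Lib.Helper74.CmpSit.Devissage

/-!
# Left exact functors and the homology of complexes of injectives (helper74)

For a left exact `ε` and a complex `M` of injectives such that the homology objects of `ε M` force
acyclicity, `ε` commutes with the homology of `M`.
-/

set_option autoImplicit false

universe v v' u u'

open CategoryTheory CategoryTheory.Limits HomologicalComplex Groth.Agent.Lib.Helper83
  Groth.Agent.Lib.Helper5

namespace Groth.Agent.Lib.Helper74.CmpSit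

variable {𝒲 : Type u} [Category.{v} 𝒲] [Abelian 𝒲] [HasInjectiveResolutions 𝒲]
  {𝒜 : Type u'} [Category.{v'} 𝒜] [Abelian 𝒜] (ε : 𝒲 ⥤ 𝒜) [ε.Additive]

/-- `ε`-acyclic objects -/
def Acyc (X : 𝒲) : Prop := ∀ i, 1 ≤ i → IsZero ((ε.rightDerived i).obj X)

variable {ε}

lemma Acyc.of_iso {X Y : 𝒲} (e : X ≅ Y) (h : Acyc ε X) : Acyc ε Y := fun i hi =>
  (h i hi).of_iso ((ε.rightDerived i).mapIso e.symm)

lemma Acyc.X₂ {S : ShortComplex 𝒲} (hS : S.ShortExact) (h₁ : Acyc ε S.X₁) (h₃ : Acyc ε S.X₃) :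
    Acyc ε S.X₂ := fun i hi =>
  ((derivedLES ε).exact₂ S hS i).isZero_of_both_isZero (h₁ i hi) (h₃ i hi)

lemma Acyc.X₃_of_injective {S : ShortComplex 𝒲} (hS : S.ShortExact) [Injective S.X₂]
    (h₁ : Acyc ε S.X₁) : Acyc ε S.X₃ := by
  intro i hi
  obtain ⟨k, rfl⟩ : ∃ k, i = k + 1 := ⟨i - 1, by omega⟩
  have := isIso_δ_of_injective ε hS k
  exact (h₁ (k + 2) (by omega)).of_iso (asIso ((derivedLES ε).δ _ hS (k + 1) (k + 2) rfl))

variable [PreservesFiniteLimits ε]

/-- **Theorem C**: `ε` commutes with the homology of a complex of injectives whose `ε`-image has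
homology in a class forcing acyclicity. -/
theorem acyc_cycles_and_homology_iso (M : CochainComplex 𝒲 ℕ) (hM : ∀ q, Injective (M.X q))
    (Q : ObjectProperty 𝒜) [Q.IsClosedUnderIsomorphisms]
    (hQ : ∀ j, Q ((mapCx ε M).homology j)) (hacyc : ∀ N, Q (ε.obj N) → Acyc ε N) :
    ∀ j, Acyc ε (M.cycles j) ∧ Nonempty ((mapCx ε M).homology j ≅ ε.obj (M.homology j)) := by
  intro j
  induction j with
  | zero =>
    have e : (mapCx ε M).homology 0 ≅ ε.obj (M.cycles 0) :=
      (mapCx ε M).isoHomologyπ₀.symm ≪≫ (cyclesIso ε M 0).symm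
    exact ⟨hacyc _ (Q.prop_of_iso e (hQ 0)), ⟨e ≪≫ ε.mapIso M.isoHomologyπ₀⟩⟩
  | succ j ih =>
    have hZ := ih.1
    have hS1 := ses1_shortExact M j
    haveI : Injective (ses1 M j).X₂ := hM j
    have hC : Acyc ε (Cb M j) := Acyc.X₃_of_injective hS1 hZ
    obtain ⟨ι₁, c, δ', w, w', h1, h2, h3⟩ := exists_structure ε M hM j
    have hι : ι₁ = 0 := (hZ 1 le_rfl).eq_of_src _ _
    have hδ : δ' = 0 := (hC 1 le_rfl).eq_of_tgt _ _
    have hmono : Mono c := h2.mono_g hι
    have hepi : Epi c := h3.epi_f hδ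
    have hiso : IsIso c := isIso_of_mono_of_epi c
    have hH : Acyc ε (M.homology (j + 1)) := hacyc _ (Q.prop_of_iso (asIso c) (hQ (j + 1)))
    exact ⟨Acyc.X₂ (ses2_shortExact M j) hC hH, ⟨asIso c⟩⟩

end Groth.Agent.Lib.Helper74.CmpSit
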