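import Groth.Agent.Lib.Helper74.CmpSit.Zigzag
import Mathlib.CategoryTheory.Preadditive.Injective.Basic
import Mathlib.CategoryTheory.Preadditive.Injective.Preserves
import Mathlib.CategoryTheory.Adjunction.Basic
import Mathlib.Algebra.Homology.ShortComplex.ExactFunctor

/-!
# The cobar tower of an adjunction (helper74)

For an adjunction `L ⊣ Φ` between abelian categories and a cochain complex `K` on which the unit is
a monomorphism, we construct the tower `K = K₀`, `K_{p+1} = coker (K_p ⟶ Φ L K_p)` and the split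
short exact sequences obtained after applying `L`.
-/

set_option autoImplicit false

universe v v' u u'

open CategoryTheory CategoryTheory.Limits HomologicalComplex

namespace Groth.Agent.Lib.Helper74.CmpSit

variable {𝒜 : Type u} [Category.{v} 𝒜] [Abelian 𝒜] {𝒲 : Type u'} [Category.{v'} 𝒲] [Abelian 𝒲]
  {L : 𝒜 ⥤ 𝒲} {Φ : 𝒲 ⥤ 𝒜} (adj : L ⊣ Φ) [L.Additive] [Φ.Additive]

variable (L) in
/-- `L` on complexes -/
abbrev Lc : CochainComplex 𝒜 ℕ ⥤ CochainComplex 𝒲 ℕ :=
  L.mapHomologicalComplex (ComplexShape.up ℕ)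

variable (L Φ) in
/-- `Φ L K` -/
abbrev Tc (K : CochainComplex 𝒜 ℕ) : CochainComplex 𝒜 ℕ :=
  (Φ.mapHomologicalComplex (ComplexShape.up ℕ)).obj ((Lc L).obj K)

/-- the unit `K ⟶ Φ L K` -/
def ηc (K : CochainComplex 𝒜 ℕ) : K ⟶ Tc L Φ K where
  f q := adj.unit.app (K.X q)
  comm' i j _ := (adj.unit.naturality (K.d i j)).symm

@[simp] lemma ηc_f (K : CochainComplex 𝒜 ℕ) (q : ℕ) : (ηc adj K).f q = adj.unit.app (K.X q) := rfl

/-- the counit `L Φ L K ⟶ L K` -/
def ρc (K : CochainComplex 𝒜 ℕ) : (Lc L).obj (Tc L Φ K) ⟶ (Lc L).obj K where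
  f q := adj.counit.app (L.obj (K.X q))
  comm' i j _ := (adj.counit.naturality (L.map (K.d i j))).symm

lemma map_ηc_ρc (K : CochainComplex 𝒜 ℕ) : (Lc L).map (ηc adj K) ≫ ρc adj K = 𝟙 _ := by
  ext q
  exact adj.left_triangle_components (K.X q)

/-- the next step of the tower -/
noncomputable def next (K : CochainComplex 𝒜 ℕ) : CochainComplex 𝒜 ℕ := cokernel (ηc adj K)

/-- the projection `Φ L K ⟶ next K` -/
noncomputable def πc (K : CochainComplex 𝒜 ℕ) : Tc L Φ K ⟶ next adj K := cokernel.π (ηc adj K)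

@[reassoc (attr := simp)]
lemma ηc_πc (K : CochainComplex 𝒜 ℕ) : ηc adj K ≫ πc adj K = 0 := cokernel.condition _

instance (K : CochainComplex 𝒜 ℕ) : Epi (πc adj K) :=
  inferInstanceAs (Epi (cokernel.π (ηc adj K)))

/-- the short complex `K ⟶ Φ L K ⟶ next K` -/
noncomputable abbrev sesK (K : CochainComplex 𝒜 ℕ) : ShortComplex (CochainComplex 𝒜 ℕ) :=
  ShortComplex.mk (ηc adj K) (πc adj K) (ηc_πc adj K)

/-- complexes on which the tower is well-behaved -/
structure Good (K : CochainComplex 𝒜 ℕ) : Prop where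
  inj : ∀ q, Injective (K.X q)
  mono : ∀ q, Mono (adj.unit.app (K.X q))

variable {adj}

lemma Good.mono_ηc {K : CochainComplex 𝒜 ℕ} (h : Good adj K) : Mono (ηc adj K) :=
  mono_of_mono_f _ (fun q => h.mono q)

lemma Good.shortExact {K : CochainComplex 𝒜 ℕ} (h : Good adj K) : (sesK adj K).ShortExact := by
  have := h.mono_ηc
  exact ShortComplex.ShortExact.mk' (ShortComplex.exact_of_g_is_cokernel _ (cokernelIsCokernel _))
    this inferInstance

/-- degreewise splitting of `K ⟶ Φ L K ⟶ next K` -/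
noncomputable def Good.splitting {K : CochainComplex 𝒜 ℕ} (h : Good adj K) (q : ℕ) :
    ((sesK adj K).map (HomologicalComplex.eval 𝒜 _ q)).Splitting :=
  have hS : ((sesK adj K).map (HomologicalComplex.eval 𝒜 _ q)).ShortExact :=
    h.shortExact.map_of_exact (HomologicalComplex.eval 𝒜 _ q)
  have : Mono ((sesK adj K).map (HomologicalComplex.eval 𝒜 _ q)).f := hS.mono_f
  have : Epi ((sesK adj K).map (HomologicalComplex.eval 𝒜 _ q)).g := hS.epi_g
  have : Injective ((sesK adj K).map (HomologicalComplex.eval 𝒜 _ q)).X₁ := h.inj q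
  ShortComplex.Splitting.ofExactOfRetraction _ hS.exact
    (Injective.factorThru (𝟙 _) ((sesK adj K).map (HomologicalComplex.eval 𝒜 _ q)).f)
    (by simp) inferInstance

lemma Good.succ [L.PreservesInjectiveObjects] [L.PreservesMonomorphisms]
    {K : CochainComplex 𝒜 ℕ} (h : Good adj K) : Good adj (next adj K) := by
  have hΦL : ∀ q, Injective (Φ.obj (L.obj (K.X q))) := fun q => by
    have := h.inj q
    have : Injective (L.obj (K.X q)) := L.injective_obj _
    exact Injective.injective_of_adjoint adj _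
  refine ⟨fun q => ?_, fun q => ?_⟩
  · have := hΦL q
    let r : Retract ((next adj K).X q) (Φ.obj (L.obj (K.X q))) :=
      { i := (h.splitting q).s
        r := (πc adj K).f q
        retract := (h.splitting q).s_g }
    exact r.injective
  · have h1 : (h.splitting q).s ≫ adj.unit.app (Φ.obj (L.obj (K.X q))) =
        adj.unit.app ((next adj K).X q) ≫ Φ.map (L.map (h.splitting q).s) :=
      adj.unit.naturality _
    have h2 : Mono (adj.unit.app (Φ.obj (L.obj (K.X q)))) :=
      (SplitMono.mk _ (adj.right_triangle_components (L.obj (K.X q)))).mono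
    have h3 : Mono (h.splitting q).s :=
      (SplitMono.mk _ (h.splitting q).s_g).mono
    have h4 : Mono ((h.splitting q).s ≫ adj.unit.app (Φ.obj (L.obj (K.X q)))) :=
      @mono_comp _ _ _ _ _ _ h3 _ h2
    rw [h1] at h4
    exact @mono_of_mono _ _ _ _ _ _ _ h4

variable (adj)

/-- the objects of the tower -/
noncomputable def Kp (K₀ : CochainComplex 𝒜 ℕ) : ℕ → CochainComplex 𝒜 ℕ
  | 0 => K₀
  | p + 1 => next adj (Kp K₀ p)

variable {adj}

lemma good_Kp [L.PreservesInjectiveObjects] [L.PreservesMonomorphisms]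
    {K₀ : CochainComplex 𝒜 ℕ} (h : Good adj K₀) : ∀ p, Good adj (Kp adj K₀ p)
  | 0 => h
  | p + 1 => (good_Kp h p).succ

/-- the cobar tower -/
noncomputable def tower [L.PreservesInjectiveObjects] [L.PreservesMonomorphisms]
    {K₀ : CochainComplex 𝒜 ℕ} (h : Good adj K₀) : Tower 𝒜 where
  K := Kp adj K₀
  D p := Tc L Φ (Kp adj K₀ p)
  η p := ηc adj (Kp adj K₀ p)
  π p := πc adj (Kp adj K₀ p)
  zero p := ηc_πc adj _
  exact p := (good_Kp h p).shortExact

end Groth.Agent.Lib.Helper74.CmpSit
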