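import Mathlib.CategoryTheory.Abelian.Refinements
import Mathlib.Algebra.Homology.ShortComplex.ShortExact
import Mathlib.Algebra.Homology.ShortComplex.ExactFunctor

/-!
# A kernel–cokernel lemma (helper74)

Given `A ⟶ B ⟶ Z ⟶ H` with `β` mono and `(β, γ)` exact, the cokernel `E` of `α ≫ β` sits in an
exact sequence `0 ⟶ coker α ⟶ E ⟶ H`.
-/

set_option autoImplicit false

universe v u

open CategoryTheory CategoryTheory.Limits

namespace Groth.Agent.Lib.Helper74.CmpSit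

variable {𝒜 : Type u} [Category.{v} 𝒜] [Abelian 𝒜]

section

variable {A B Z H E Q : 𝒜} (α : A ⟶ B) (β : B ⟶ Z) (γ : Z ⟶ H) [Mono β]
  (wβγ : β ≫ γ = 0) (hβγ : (ShortComplex.mk β γ wβγ).Exact)
  (ab : A ⟶ Z) (hab : α ≫ β = ab)
  (p : Z ⟶ E) [Epi p] (wp : ab ≫ p = 0) (hp : (ShortComplex.mk ab p wp).Exact)
  (π₁ : B ⟶ Q) [Epi π₁] (wπ : α ≫ π₁ = 0) (hπ : (ShortComplex.mk α π₁ wπ).Exact)
  (ι₁ : Q ⟶ E) (hι : π₁ ≫ ι₁ = β ≫ p) (c : E ⟶ H) (hc : p ≫ c = γ)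

include hab hp hπ hι in
lemma mono_ι₁ : Mono ι₁ := by
  subst hab
  rw [Preadditive.mono_iff_cancel_zero]
  intro T x hx
  obtain ⟨T₁, π₁', hπ₁', b, hb⟩ := surjective_up_to_refinements_of_epi π₁ x
  have h1 : (b ≫ β) ≫ p = 0 := by
    rw [Category.assoc, ← hι, ← Category.assoc, ← hb, Category.assoc, hx, comp_zero]
  obtain ⟨T₂, π₂, hπ₂, a, ha⟩ := hp.exact_up_to_refinements (b ≫ β) h1
  dsimp at ha
  have h2 : π₂ ≫ b = a ≫ α := by
    rw [← cancel_mono β]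
    simpa using ha
  rw [← cancel_epi π₁', ← cancel_epi π₂, comp_zero, comp_zero, hb, ← Category.assoc, h2,
    Category.assoc, wπ, comp_zero]

include hι hc wβγ in
lemma ι₁_comp_c : ι₁ ≫ c = 0 := by
  rw [← cancel_epi π₁, comp_zero, ← Category.assoc, hι, Category.assoc, hc, wβγ]

include hβγ hι hc in
lemma exact_ι₁_c : (ShortComplex.mk ι₁ c (ι₁_comp_c β γ wβγ p π₁ ι₁ hι c hc)).Exact := by
  rw [ShortComplex.exact_iff_exact_up_to_refinements]
  intro T y hy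
  dsimp at y hy ⊢
  obtain ⟨T₁, π₁', hπ₁', z, hz⟩ := surjective_up_to_refinements_of_epi p y
  have h1 : z ≫ γ = 0 := by
    rw [← hc, ← Category.assoc, ← hz, Category.assoc, hy, comp_zero]
  obtain ⟨T₂, π₂, hπ₂, b, hb⟩ := hβγ.exact_up_to_refinements z h1
  dsimp at hb
  refine ⟨T₂, π₂ ≫ π₁', inferInstance, b ≫ π₁, ?_⟩
  rw [Category.assoc, hz, ← Category.assoc, hb, Category.assoc, Category.assoc, hι]

end

/-- If `γ = p ≫ c` with `p` epi and `(γ, δ)` is exact then `(c, δ)` is exact. -/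
lemma exact_of_epi_comp {Z E H R : 𝒜} (p : Z ⟶ E) [Epi p] (c : E ⟶ H) (γ : Z ⟶ H)
    (hγ : p ≫ c = γ) (δ : H ⟶ R)
    (w : γ ≫ δ = 0) (h : (ShortComplex.mk γ δ w).Exact) :
    (ShortComplex.mk c δ (by
      subst hγ
      rw [← cancel_epi p, comp_zero, ← Category.assoc, w])).Exact := by
  subst hγ
  let φ : ShortComplex.mk (p ≫ c) δ w ⟶ ShortComplex.mk c δ
      (by rw [← cancel_epi p, comp_zero, ← Category.assoc, w]) :=
    { τ₁ := p, τ₂ := 𝟙 _, τ₃ := 𝟙 _, comm₁₂ := by simp, comm₂₃ := by simp }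
  haveI : Epi φ.τ₁ := by dsimp [φ]; infer_instance
  haveI : IsIso φ.τ₂ := by dsimp [φ]; infer_instance
  haveI : Mono φ.τ₃ := by dsimp [φ]; infer_instance
  exact (ShortComplex.exact_iff_of_epi_of_isIso_of_mono φ).1 h

end Groth.Agent.Lib.Helper74.CmpSit
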