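import Groth.Agent.Lib.Helper5.RDerShift
import Groth.Agent.Lib.Helper74.CmpSit.KerCoker
import Groth.Prelude.Def_WeakSerre
import Mathlib.Algebra.Homology.ShortComplex.HomologicalComplex
import Mathlib.Algebra.Homology.HomologicalComplexAbelian
import Mathlib.CategoryTheory.Limits.Preserves.Shapes.Kernels

/-!
# Dévissage for a complex of injectives (helper74)

Let `Φ : 𝒲 ⥤ 𝒜` be a left exact additive functor and `M` an `ℕ`-indexed cochain complex of
injective objects of `𝒲`.  If `RⁱΦ` maps the cohomology objects `Hʲ(M)`, `j ≤ q₀`, into a weak Serre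
class `PA`, then `Hʲ(Φ M) ∈ PA` for `j ≤ q₀`; and for every `j` there is a map
`Hʲ⁺¹(Φ M) ⟶ Φ(Hʲ⁺¹ M)` whose kernel is in `PA` as soon as the cohomology in degrees `≤ j` is good.
-/

set_option autoImplicit false

universe v v' u u'

open CategoryTheory CategoryTheory.Limits HomologicalComplex ZeroObject

namespace Groth.Agent.Lib.Helper74.CmpSit

open Groth.Agent.Lib.Helper83 Groth.Agent.Lib.Helper5

section FiveTerm

variable {C : Type u} [Category.{v} C] [Abelian C]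

/-- (after helper32) In an exact sequence `X₁ ⟶ X₂ ⟶ X₃ ⟶ X₄ ⟶ X₅` with the four outer terms in a
weak Serre subcategory, the middle term is in it. -/
lemma prop_of_exact5 (P : ObjectProperty C) [WSerre.IsWeakSerre P] {X₁ X₂ X₃ X₄ X₅ : C}
    (f₁ : X₁ ⟶ X₂) (f₂ : X₂ ⟶ X₃) (f₃ : X₃ ⟶ X₄) (f₄ : X₄ ⟶ X₅)
    (w₁ : f₁ ≫ f₂ = 0) (w₂ : f₂ ≫ f₃ = 0) (w₃ : f₃ ≫ f₄ = 0)
    (e₁ : (ShortComplex.mk f₁ f₂ w₁).Exact) (e₂ : (ShortComplex.mk f₂ f₃ w₂).Exact)
    (e₃ : (ShortComplex.mk f₃ f₄ w₃).Exact)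
    (h₁ : P X₁) (h₂ : P X₂) (h₄ : P X₄) (h₅ : P X₅) : P X₃ := by
  have hc : P (cokernel f₁) := P.prop_of_isColimit_cokernelCofork
    (k := Cofork.ofπ (cokernel.π f₁) (by simp)) (cokernelIsCokernel f₁) h₁ h₂
  have hk : P (kernel f₄) := P.prop_of_isLimit_kernelFork
    (k := Fork.ofι (kernel.ι f₄) (by simp)) (kernelIsKernel f₄) h₄ h₅
  let a : cokernel f₁ ⟶ X₃ := cokernel.desc f₁ f₂ w₁
  let b : X₃ ⟶ kernel f₄ := kernel.lift f₄ f₃ w₃
  haveI : Mono a := (ShortComplex.mk f₁ f₂ w₁).exact_iff_mono_cokernel_desc.1 e₁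
  haveI : Epi b := (ShortComplex.mk f₃ f₄ w₃).exact_iff_epi_kernel_lift.1 e₃
  have wab : a ≫ b = 0 := by
    rw [← cancel_epi (cokernel.π f₁), ← cancel_mono (kernel.ι f₄)]
    simp [a, b, w₂]
  have wa3 : a ≫ f₃ = 0 := by
    rw [← cancel_epi (cokernel.π f₁)]
    simp [a, w₂]
  let φ₁ : ShortComplex.mk f₂ f₃ w₂ ⟶ ShortComplex.mk a f₃ wa3 :=
    { τ₁ := cokernel.π f₁, τ₂ := 𝟙 _, τ₃ := 𝟙 _, comm₁₂ := by simp [a], comm₂₃ := by simp }
  let φ₂ : ShortComplex.mk a b wab ⟶ ShortComplex.mk a f₃ wa3 :=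
    { τ₁ := 𝟙 _, τ₂ := 𝟙 _, τ₃ := kernel.ι f₄, comm₁₂ := by simp, comm₂₃ := by simp [b] }
  haveI : Epi φ₁.τ₁ := by dsimp [φ₁]; infer_instance
  haveI : IsIso φ₁.τ₂ := by dsimp [φ₁]; infer_instance
  haveI : Mono φ₁.τ₃ := by dsimp [φ₁]; infer_instance
  haveI : Epi φ₂.τ₁ := by dsimp [φ₂]; infer_instance
  haveI : IsIso φ₂.τ₂ := by dsimp [φ₂]; infer_instance
  haveI : Mono φ₂.τ₃ := by dsimp [φ₂]; infer_instance
  have ex : (ShortComplex.mk a b wab).Exact :=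
    (ShortComplex.exact_iff_of_epi_of_isIso_of_mono φ₂).2
      ((ShortComplex.exact_iff_of_epi_of_isIso_of_mono φ₁).1 e₂)
  have hS : (ShortComplex.mk a b wab).ShortExact := ⟨ex⟩
  exact P.prop_X₂_of_shortExact hS hc hk

/-- a retract of an object of a weak Serre class is in the class -/
lemma prop_of_retract (P : ObjectProperty C) [WSerre.IsWeakSerre P] {X Y : C} (i : X ⟶ Y)
    (r : Y ⟶ X) (h : i ≫ r = 𝟙 X) (hY : P Y) : P X := by
  -- `X` is the kernel of `𝟙 - r ≫ i`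
  have w : i ≫ (𝟙 Y - r ≫ i) = 0 := by
    rw [Preadditive.comp_sub, Category.comp_id, ← Category.assoc, h, Category.id_comp, sub_self]
  have hk : IsLimit (KernelFork.ofι i w) :=
    KernelFork.IsLimit.ofι _ _ (fun {T} x _ => x ≫ r)
      (fun {T} x hx => by
        rw [Preadditive.comp_sub, Category.comp_id, sub_eq_zero] at hx
        rw [Category.assoc]
        exact hx.symm)
      (fun {T} x hx m hm => by
        rw [← hm, Category.assoc, h, Category.comp_id])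
  exact P.prop_of_isLimit_kernelFork hk hY hY

end FiveTerm

variable {𝒲 : Type u} [Category.{v} 𝒲] [Abelian 𝒲]

section Sequences

variable (M : CochainComplex 𝒲 ℕ) (j : ℕ)

/-- the image of `M.X j ⟶ Z^{j+1}` ("coboundaries") -/
noncomputable abbrev Cb : 𝒲 := Abelian.image (M.toCycles j (j + 1))

/-- `M.X j ⟶ C^{j+1}` -/
noncomputable abbrev eC : M.X j ⟶ Cb M j := Abelian.factorThruImage (M.toCycles j (j + 1))

/-- `C^{j+1} ⟶ Z^{j+1}` -/
noncomputable abbrev mC : Cb M j ⟶ M.cycles (j + 1) := Abelian.image.ι (M.toCycles j (j + 1))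

lemma eC_mC : eC M j ≫ mC M j = M.toCycles j (j + 1) := Abelian.image.fac _

lemma iCycles_eC : M.iCycles j ≫ eC M j = 0 := by
  rw [← cancel_mono (mC M j), Category.assoc, eC_mC, zero_comp,
    ← cancel_mono (M.iCycles (j + 1)), Category.assoc, toCycles_i, iCycles_d, zero_comp]

/-- `0 ⟶ Z^j ⟶ M^j ⟶ C^{j+1} ⟶ 0` -/
noncomputable abbrev ses1 : ShortComplex 𝒲 := ShortComplex.mk (M.iCycles j) (eC M j) (iCycles_eC M j)

lemma ses1_shortExact : (ses1 M j).ShortExact := by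
  have hex : (ses1 M j).Exact := by
    rw [ShortComplex.exact_iff_exact_up_to_refinements]
    intro T x hx
    change T ⟶ M.X j at x
    change x ≫ eC M j = 0 at hx
    have hx' : x ≫ M.d j (j + 1) = 0 := by
      rw [← M.toCycles_i j (j + 1), ← eC_mC, Category.assoc, reassoc_of% hx, zero_comp]
    refine ⟨T, 𝟙 _, inferInstance, M.liftCycles x (j + 1) (by simp) hx', ?_⟩
    change 𝟙 T ≫ x = M.liftCycles x (j + 1) (by simp) hx' ≫ M.iCycles j
    simp
  have h1 : Mono (ses1 M j).f := by dsimp [ses1]; infer_instance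
  have h2 : Epi (ses1 M j).g := by dsimp [ses1]; infer_instance
  exact ShortComplex.ShortExact.mk' hex h1 h2

lemma mC_homologyπ : mC M j ≫ M.homologyπ (j + 1) = 0 := by
  rw [← cancel_epi (eC M j), reassoc_of% (eC_mC M j), toCycles_comp_homologyπ, comp_zero]

/-- `0 ⟶ C^{j+1} ⟶ Z^{j+1} ⟶ H^{j+1} ⟶ 0` -/
noncomputable abbrev ses2 : ShortComplex 𝒲 :=
  ShortComplex.mk (mC M j) (M.homologyπ (j + 1)) (mC_homologyπ M j)

lemma ses2_shortExact : (ses2 M j).ShortExact := by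
  have h0 : (ShortComplex.mk (M.toCycles j (j + 1)) (M.homologyπ (j + 1))
      (M.toCycles_comp_homologyπ j (j + 1))).Exact :=
    ShortComplex.exact_of_g_is_cokernel _ (M.homologyIsCokernel j (j + 1) (by simp))
  have hex : (ses2 M j).Exact := by
    let φ : ShortComplex.mk (M.toCycles j (j + 1)) (M.homologyπ (j + 1))
        (M.toCycles_comp_homologyπ j (j + 1)) ⟶ ses2 M j :=
      { τ₁ := eC M j, τ₂ := 𝟙 _, τ₃ := 𝟙 _
        comm₁₂ := by dsimp [ses2]; rw [eC_mC, Category.comp_id]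
        comm₂₃ := by dsimp [ses2]; simp }
    have : Epi φ.τ₁ := by dsimp [φ]; infer_instance
    have : IsIso φ.τ₂ := by dsimp [φ]; infer_instance
    have : Mono φ.τ₃ := by dsimp [φ]; infer_instance
    exact (ShortComplex.exact_iff_of_epi_of_isIso_of_mono φ).1 h0
  have h1 : Mono (ses2 M j).f := by dsimp [ses2]; infer_instance
  have h2 : Epi (ses2 M j).g := by dsimp [ses2]; infer_instance
  exact ShortComplex.ShortExact.mk' hex h1 h2

end Sequences

variable {𝒜 : Type u'} [Category.{v'} 𝒜] [Abelian 𝒜] [HasInjectiveResolutions 𝒲]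
  (Φ : 𝒲 ⥤ 𝒜) [Φ.Additive]
  (PW : ObjectProperty 𝒲) (PA : ObjectProperty 𝒜) [WSerre.IsWeakSerre PA]
  (M : CochainComplex 𝒲 ℕ)

/-- the higher derived functors of `Φ` on the cycles `Z^j` land in `PA` -/
def PropA (j : ℕ) : Prop := ∀ i, 1 ≤ i → PA ((Φ.rightDerived i).obj (M.cycles j))

/-- the higher derived functors of `Φ` on the coboundaries `C^{j+1}` land in `PA` -/
def PropC (j : ℕ) : Prop := ∀ i, 1 ≤ i → PA ((Φ.rightDerived i).obj (Cb M j))

variable {Φ PW PA M}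

section

variable (hΦ : ∀ X, PW X → ∀ i, PA ((Φ.rightDerived i).obj X))

include hΦ

lemma propA_zero (h0 : PW (M.homology 0)) : PropA Φ PA M 0 := by
  intro i _
  exact PA.prop_of_iso ((Φ.rightDerived i).mapIso M.isoHomologyπ₀.symm) (hΦ _ h0 i)

lemma propA_succ (j : ℕ) (hC : PropC Φ PA M j) (hH : PW (M.homology (j + 1))) :
    PropA Φ PA M (j + 1) := by
  intro i hi
  obtain ⟨k, rfl⟩ : ∃ k, i = k + 1 := ⟨i - 1, by omega⟩
  have hS := ses2_shortExact M j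
  exact prop_of_exact5 PA _ _ _ _ _ _ _
    ((derivedLES Φ).exact₁ _ hS k (k + 1) rfl) ((derivedLES Φ).exact₂ _ hS (k + 1))
    ((derivedLES Φ).exact₃ _ hS (k + 1) (k + 2) rfl)
    (hΦ _ hH k) (hC (k + 1) (by omega)) (hΦ _ hH (k + 1)) (hC (k + 2) (by omega))

end

lemma propC_of_propA (hM : ∀ q, Injective (M.X q)) (j : ℕ) (hA : PropA Φ PA M j) :
    PropC Φ PA M j := by
  intro i hi
  obtain ⟨k, rfl⟩ : ∃ k, i = k + 1 := ⟨i - 1, by omega⟩
  have hS := ses1_shortExact M j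
  haveI : Injective (ses1 M j).X₂ := hM j
  have := isIso_δ_of_injective Φ hS k
  exact PA.prop_of_iso (asIso ((derivedLES Φ).δ _ hS (k + 1) (k + 2) rfl)).symm
    (hA (k + 2) (by omega))

theorem propA_and_propC (hΦ : ∀ X, PW X → ∀ i, PA ((Φ.rightDerived i).obj X))
    (hM : ∀ q, Injective (M.X q)) (q₀ : ℕ) (hH : ∀ j, j ≤ q₀ → PW (M.homology j)) :
    ∀ j, j ≤ q₀ → PropA Φ PA M j ∧ PropC Φ PA M j := by
  intro j
  induction j with
  | zero =>
    intro _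
    have h := propA_zero hΦ (hH 0 (Nat.zero_le _))
    exact ⟨h, propC_of_propA hM 0 h⟩
  | succ j ih =>
    intro hj
    have h := propA_succ hΦ j (ih (by omega)).2 (hH (j + 1) hj)
    exact ⟨h, propC_of_propA hM (j + 1) h⟩

section Structure

variable (Φ M)
variable [PreservesFiniteLimits Φ]

/-- the complex `Φ M` -/
noncomputable abbrev mapCx : CochainComplex 𝒜 ℕ :=
  (Φ.mapHomologicalComplex (ComplexShape.up ℕ)).obj M

/-- a left exact functor commutes with cycles -/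
noncomputable def cyclesIso (j : ℕ) : Φ.obj (M.cycles j) ≅ (mapCx Φ M).cycles j :=
  IsLimit.conePointUniqueUpToIso
    (KernelFork.mapIsLimit _ (M.cyclesIsKernel j (j + 1) (by simp)) Φ)
    ((mapCx Φ M).cyclesIsKernel j (j + 1) (by simp))

@[reassoc (attr := simp)]
lemma cyclesIso_hom_iCycles (j : ℕ) :
    (cyclesIso Φ M j).hom ≫ (mapCx Φ M).iCycles j = Φ.map (M.iCycles j) :=
  IsLimit.conePointUniqueUpToIso_hom_comp
    (KernelFork.mapIsLimit _ (M.cyclesIsKernel j (j + 1) (by simp)) Φ)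
    ((mapCx Φ M).cyclesIsKernel j (j + 1) (by simp)) WalkingParallelPair.zero

@[reassoc]
lemma map_toCycles_cyclesIso_hom (i j : ℕ) :
    Φ.map (M.toCycles i j) ≫ (cyclesIso Φ M j).hom = (mapCx Φ M).toCycles i j := by
  rw [← cancel_mono ((mapCx Φ M).iCycles j), Category.assoc, cyclesIso_hom_iCycles]
  exact ((Φ.map_comp _ _).symm.trans (congrArg Φ.map (M.toCycles_i i j))).trans
    ((mapCx Φ M).toCycles_i i j).symm

/-- the projection `Φ(Z^{j+1}) ⟶ H^{j+1}(Φ M)` -/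
noncomputable def pE (j : ℕ) : Φ.obj (M.cycles (j + 1)) ⟶ (mapCx Φ M).homology (j + 1) :=
  (cyclesIso Φ M (j + 1)).hom ≫ (mapCx Φ M).homologyπ (j + 1)

instance (j : ℕ) : Epi (pE Φ M j) := by
  dsimp [pE]
  infer_instance

lemma map_toCycles_pE (j : ℕ) : Φ.map (M.toCycles j (j + 1)) ≫ pE Φ M j = 0 := by
  dsimp [pE]
  rw [← Category.assoc]
  exact (congrArg (· ≫ (mapCx Φ M).homologyπ (j + 1))
    (map_toCycles_cyclesIso_hom Φ M j (j + 1))).trans
    ((mapCx Φ M).toCycles_comp_homologyπ j (j + 1))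

lemma exact_map_toCycles_pE (j : ℕ) :
    (ShortComplex.mk (Φ.map (M.toCycles j (j + 1))) (pE Φ M j) (map_toCycles_pE Φ M j)).Exact := by
  have h0 : (ShortComplex.mk ((mapCx Φ M).toCycles j (j + 1)) ((mapCx Φ M).homologyπ (j + 1))
      ((mapCx Φ M).toCycles_comp_homologyπ j (j + 1))).Exact :=
    ShortComplex.exact_of_g_is_cokernel _ ((mapCx Φ M).homologyIsCokernel j (j + 1) (by simp))
  let φ : ShortComplex.mk (Φ.map (M.toCycles j (j + 1))) (pE Φ M j) (map_toCycles_pE Φ M j) ⟶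
      ShortComplex.mk ((mapCx Φ M).toCycles j (j + 1)) ((mapCx Φ M).homologyπ (j + 1))
        ((mapCx Φ M).toCycles_comp_homologyπ j (j + 1)) :=
    { τ₁ := 𝟙 _, τ₂ := (cyclesIso Φ M (j + 1)).hom, τ₃ := 𝟙 _
      comm₁₂ := (Category.id_comp _).trans (map_toCycles_cyclesIso_hom Φ M j (j + 1)).symm
      comm₂₃ := by
        dsimp [pE]
        rw [Category.comp_id] }
  have : Epi φ.τ₁ := by dsimp [φ]; exact (inferInstance : Epi (𝟙 (Φ.obj (M.X j))))
  have : IsIso φ.τ₂ := by dsimp [φ]; infer_instance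
  have : Mono φ.τ₃ := by dsimp [φ]; infer_instance
  exact (ShortComplex.exact_iff_of_epi_of_isIso_of_mono φ).2 h0

/-- **Structure of `H^{j+1}(Φ M)`** for a complex `M` of injectives and a left exact `Φ`:
`0 ⟶ R¹Φ(Z^j) ⟶ H^{j+1}(Φ M) ⟶ Φ(H^{j+1} M) ⟶ R¹Φ(C^{j+1})` is exact. -/
theorem exists_structure (hM : ∀ q, Injective (M.X q)) (j : ℕ) :
    ∃ (ι₁ : (Φ.rightDerived 1).obj (M.cycles j) ⟶ (mapCx Φ M).homology (j + 1))
      (c : (mapCx Φ M).homology (j + 1) ⟶ Φ.obj (M.homology (j + 1)))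
      (δ' : Φ.obj (M.homology (j + 1)) ⟶ (Φ.rightDerived 1).obj (Cb M j))
      (w : ι₁ ≫ c = 0) (w' : c ≫ δ' = 0),
      Mono ι₁ ∧ (ShortComplex.mk ι₁ c w).Exact ∧ (ShortComplex.mk c δ' w').Exact := by
  have hS1 := ses1_shortExact M j
  have hS2 := ses2_shortExact M j
  haveI : Injective (ses1 M j).X₂ := hM j
  obtain ⟨π₁, wπ, hπex, hπepi⟩ := exact_and_epi_toRightDerivedOne Φ hS1
  change Φ.obj (Cb M j) ⟶ (Φ.rightDerived 1).obj (M.cycles j) at π₁
  change Φ.map (eC M j) ≫ π₁ = 0 at wπ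
  have hβmono : Mono (Φ.map (mC M j)) := inferInstance
  have wβγ : Φ.map (mC M j) ≫ Φ.map (M.homologyπ (j + 1)) = 0 := by
    rw [← Φ.map_comp, mC_homologyπ, Φ.map_zero]
  have hβγ : (ShortComplex.mk (Φ.map (mC M j)) (Φ.map (M.homologyπ (j + 1))) wβγ).Exact :=
    hS2.exact.map_of_mono_of_preservesKernel Φ (by dsimp; infer_instance) inferInstance
  have hab : Φ.map (eC M j) ≫ Φ.map (mC M j) = Φ.map (M.toCycles j (j + 1)) := by
    rw [← Φ.map_comp, eC_mC]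
  have hp := exact_map_toCycles_pE Φ M j
  -- the map `ι₁`
  have w1 : Φ.map (eC M j) ≫ Φ.map (mC M j) ≫ pE Φ M j = 0 := by
    rw [← Category.assoc, hab, map_toCycles_pE]
  let ι₁ : (Φ.rightDerived 1).obj (M.cycles j) ⟶ (mapCx Φ M).homology (j + 1) :=
    hπex.gIsCokernel.desc (CokernelCofork.ofπ (Φ.map (mC M j) ≫ pE Φ M j) w1)
  have hι : π₁ ≫ ι₁ = Φ.map (mC M j) ≫ pE Φ M j :=
    Cofork.IsColimit.π_desc hπex.gIsCokernel
  -- the map `c`
  have w2 : Φ.map (M.toCycles j (j + 1)) ≫ Φ.map (M.homologyπ (j + 1)) = 0 := by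
    rw [← Φ.map_comp, toCycles_comp_homologyπ, Φ.map_zero]
  let c : (mapCx Φ M).homology (j + 1) ⟶ Φ.obj (M.homology (j + 1)) :=
    hp.gIsCokernel.desc (CokernelCofork.ofπ (Φ.map (M.homologyπ (j + 1))) w2)
  have hc : pE Φ M j ≫ c = Φ.map (M.homologyπ (j + 1)) :=
    Cofork.IsColimit.π_desc hp.gIsCokernel
  -- the connecting map
  let e := Φ.rightDerivedZeroIsoSelf
  let δ' : Φ.obj (M.homology (j + 1)) ⟶ (Φ.rightDerived 1).obj (Cb M j) :=
    e.inv.app _ ≫ (derivedLES Φ).δ (ses2 M j) hS2 0 1 rfl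
  have hex3 := (derivedLES Φ).exact₃ (ses2 M j) hS2 0 1 rfl
  have wγδ : Φ.map (M.homologyπ (j + 1)) ≫ δ' = 0 := by
    dsimp [δ']
    rw [← Category.assoc, e.inv.naturality, Category.assoc]
    have := (derivedLES Φ).comp_δ (ses2 M j) hS2 0 1 rfl
    dsimp at this
    rw [this, comp_zero]
  have hγδ : (ShortComplex.mk (Φ.map (M.homologyπ (j + 1))) δ' wγδ).Exact := by
    let φ : ShortComplex.mk _ _ ((derivedLES Φ).comp_δ (ses2 M j) hS2 0 1 rfl) ⟶
        ShortComplex.mk (Φ.map (M.homologyπ (j + 1))) δ' wγδ :=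
      { τ₁ := e.hom.app _, τ₂ := e.hom.app _, τ₃ := 𝟙 _
        comm₁₂ := by
          dsimp
          exact (e.hom.naturality _).symm
        comm₂₃ := by
          dsimp [δ']
          rw [Category.comp_id, ← Category.assoc, Iso.hom_inv_id_app, Category.id_comp] }
    have : Epi φ.τ₁ := by dsimp [φ]; infer_instance
    have : IsIso φ.τ₂ := by dsimp [φ]; infer_instance
    have : Mono φ.τ₃ := by dsimp [φ]; infer_instance
    exact (ShortComplex.exact_iff_of_epi_of_isIso_of_mono φ).1 hex3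
  refine ⟨ι₁, c, δ', ι₁_comp_c _ _ wβγ (pE Φ M j) π₁ ι₁ hι c hc, ?_, ?_, ?_, ?_⟩
  · rw [← cancel_epi (pE Φ M j), comp_zero, ← Category.assoc, hc, wγδ]
  · exact mono_ι₁ (Φ.map (eC M j)) (Φ.map (mC M j)) _ hab (pE Φ M j) _ hp π₁ wπ hπex ι₁ hι
  · exact exact_ι₁_c _ _ _ hβγ (pE Φ M j) π₁ ι₁ hι c hc
  · exact exact_of_epi_comp (pE Φ M j) c _ hc δ' wγδ hγδ

variable {Φ M}

/-- the kernel of a map from `H^{j+1}(Φ M)` to an object `Φ(N)` is in `PA`. -/
theorem exists_kernel_prop (hΦ : ∀ X, PW X → ∀ i, PA ((Φ.rightDerived i).obj X))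
    (hM : ∀ q, Injective (M.X q)) (j : ℕ) (hH : ∀ i, i ≤ j → PW (M.homology i)) :
    ∃ (Q : 𝒜) (ι : Q ⟶ (mapCx Φ M).homology (j + 1)) (N : 𝒲)
      (c : (mapCx Φ M).homology (j + 1) ⟶ Φ.obj N) (w : ι ≫ c = 0),
      PA Q ∧ Mono ι ∧ (ShortComplex.mk ι c w).Exact := by
  obtain ⟨ι₁, c, δ', w, w', h1, h2, h3⟩ := exists_structure Φ M hM j
  exact ⟨_, ι₁, _, c, w, (propA_and_propC hΦ hM j hH j le_rfl).1 1 le_rfl, h1, h2⟩

/-- **Dévissage**: `H^j(Φ M) ∈ PA` for `j ≤ q₀` when `RⁱΦ(H^j M) ∈ PA` for `j ≤ q₀`. -/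
theorem prop_homology_mapCx (hΦ : ∀ X, PW X → ∀ i, PA ((Φ.rightDerived i).obj X))
    (hM : ∀ q, Injective (M.X q)) (q₀ : ℕ) (hH : ∀ j, j ≤ q₀ → PW (M.homology j)) :
    ∀ j, j ≤ q₀ → PA ((mapCx Φ M).homology j) := by
  intro j hj
  obtain _ | j := j
  · have e : (mapCx Φ M).homology 0 ≅ (Φ.rightDerived 0).obj (M.homology 0) :=
      (mapCx Φ M).isoHomologyπ₀.symm ≪≫ (cyclesIso Φ M 0).symm ≪≫
        Φ.mapIso M.isoHomologyπ₀ ≪≫ (Φ.rightDerivedZeroIsoSelf.app _).symm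
    exact PA.prop_of_iso e.symm (hΦ _ (hH 0 hj) 0)
  · obtain ⟨ι₁, c, δ', w, w', h1, h2, h3⟩ := exists_structure Φ M hM j
    have hAC := propA_and_propC hΦ hM j (fun i hi => hH i (by omega)) j le_rfl
    have h0 : PA (Φ.obj (M.homology (j + 1))) :=
      PA.prop_of_iso (Φ.rightDerivedZeroIsoSelf.app _) (hΦ _ (hH (j + 1) hj) 0)
    refine prop_of_exact5 PA (0 : (0 : 𝒜) ⟶ _) ι₁ c δ' zero_comp w w' ?_ h2 h3
      PA.prop_zero (hAC.1 1 le_rfl) h0 (hAC.2 1 le_rfl)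
    exact (ShortComplex.exact_iff_mono _ rfl).2 h1

end Structure

end Groth.Agent.Lib.Helper74.CmpSit
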