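import Groth.Agent.Lib.Helper74.CmpSit.Cobar
import Groth.Agent.Lib.Helper74.CmpSit.Devissage

/-!
# The abstract comparison theorem (helper74)

`L ⊣ Φ` an adjunction of abelian categories with `L` exact and preserving injectives, weak Serre
classes `PA`, `PW` with `L PA ⊆ PW`, `RⁱΦ PW ⊆ PA` and a detection property.  For a complex `K₀`
of injectives on which the unit is mono, with `H⁰ ∈ PA` and `Hʲ = 0` for `1 ≤ j ≤ n`, the unit of
`Hⁿ⁺¹(K₀)` is a monomorphism.
-/

set_option autoImplicit false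

universe v v' u u'

open CategoryTheory CategoryTheory.Limits HomologicalComplex

namespace Groth.Agent.Lib.Helper74.CmpSit

section General

variable {C : Type u} [Category.{v} C] [Abelian C]

/-- exactness from a contraction -/
lemma exact_of_contraction {X Y Z : C} (a : X ⟶ Y) (b : Y ⟶ Z) (w : a ≫ b = 0)
    (h : Y ⟶ X) (h' : Z ⟶ Y) (e : h ≫ a + b ≫ h' = 𝟙 Y) : (ShortComplex.mk a b w).Exact := by
  rw [ShortComplex.exact_iff_exact_up_to_refinements]
  intro T x hx
  change T ⟶ Y at x
  change x ≫ b = 0 at hx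
  refine ⟨T, 𝟙 _, inferInstance, x ≫ h, ?_⟩
  change 𝟙 T ≫ x = (x ≫ h) ≫ a
  rw [Category.id_comp, Category.assoc]
  have h1 : x ≫ (h ≫ a + b ≫ h') = x ≫ 𝟙 Y := by rw [e]
  rw [Preadditive.comp_add, Category.comp_id, reassoc_of% hx, zero_comp, add_zero] at h1
  exact h1.symm

/-- the homology of a short complex with terms in a weak Serre class is in the class -/
lemma prop_homology (P : ObjectProperty C) [WSerre.IsWeakSerre P] (S : ShortComplex C)
    (h₁ : P S.X₁) (h₂ : P S.X₂) (h₃ : P S.X₃) : P S.homology := by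
  have hc : P S.cycles := P.prop_of_isLimit_kernelFork S.cyclesIsKernel h₂ h₃
  exact P.prop_of_isColimit_cokernelCofork S.homologyIsCokernel h₁ hc

end General

variable {𝒜 : Type u} [Category.{v} 𝒜] [Abelian 𝒜] {𝒲 : Type u'} [Category.{v'} 𝒲] [Abelian 𝒲]
  {L : 𝒜 ⥤ 𝒲} {Φ : 𝒲 ⥤ 𝒜} {adj : L ⊣ Φ} [L.Additive] [Φ.Additive]
  [PreservesFiniteLimits L] [PreservesFiniteColimits L]

section HomIso

instance : L.PreservesHomology where
  preservesKernels _ _ _ := inferInstance
  preservesCokernels _ _ _ := inferInstance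

variable (L)

/-- an exact functor commutes with homology -/
noncomputable def homIso (K : CochainComplex 𝒜 ℕ) (k : ℕ) :
    ((Lc L).obj K).homology k ≅ L.obj (K.homology k) :=
  (K.sc k).mapHomologyIso L

lemma homIso_hom_naturality {K K' : CochainComplex 𝒜 ℕ} (f : K ⟶ K') (k : ℕ) :
    homologyMap ((Lc L).map f) k ≫ (homIso L K' k).hom =
      (homIso L K k).hom ≫ L.map (homologyMap f k) :=
  ShortComplex.mapHomologyIso_hom_naturality ((shortComplexFunctor 𝒜 _ k).map f) L

end HomIso

/-- the splitting of `L K ⟶ L Φ L K ⟶ L (next K)` -/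
noncomputable def splL {K : CochainComplex 𝒜 ℕ} (hK : Good adj K) :
    ((sesK adj K).map (Lc L)).Splitting :=
  ShortComplex.Splitting.ofExactOfRetraction _ (hK.shortExact.map_of_exact (Lc L)).exact
    (ρc adj K) (map_ηc_ρc adj K) (hK.shortExact.map_of_exact (Lc L)).epi_g

section Main

variable (adj) in
/-- the `d₁`-differential `Φ L K ⟶ Φ L (next K)` -/
noncomputable def dK (K : CochainComplex 𝒜 ℕ) : Tc L Φ K ⟶ Tc L Φ (next adj K) :=
  πc adj K ≫ ηc adj (next adj K)

variable (adj) in
lemma dK_comp_dK (K : CochainComplex 𝒜 ℕ) : dK adj K ≫ dK adj (next adj K) = 0 := by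
  simp [dK]

lemma homologyMap_map_dK_comp (K : CochainComplex 𝒜 ℕ) (k : ℕ) :
    homologyMap ((Lc L).map (dK adj K)) k ≫ homologyMap ((Lc L).map (dK adj (next adj K))) k = 0 := by
  rw [← homologyMap_comp, ← Functor.map_comp, dK_comp_dK, Functor.map_zero, homologyMap_zero]

lemma homologyMap_dK_comp (K : CochainComplex 𝒜 ℕ) (k : ℕ) :
    homologyMap (dK adj K) k ≫ homologyMap (dK adj (next adj K)) k = 0 := by
  rw [← homologyMap_comp, dK_comp_dK, homologyMap_zero]

variable [L.PreservesInjectiveObjects] {K : CochainComplex 𝒜 ℕ} (hK : Good adj K)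

/-- the section `L (next K) ⟶ L Φ L K` -/
noncomputable def sL : (Lc L).obj (next adj K) ⟶ (Lc L).obj (Tc L Φ K) := (splL hK).s

lemma sL_π : sL hK ≫ (Lc L).map (πc adj K) = 𝟙 ((Lc L).obj (next adj K)) := (splL hK).s_g

lemma ρc_η_add : ρc adj K ≫ (Lc L).map (ηc adj K) + (Lc L).map (πc adj K) ≫ sL hK =
    𝟙 ((Lc L).obj (Tc L Φ K)) := (splL hK).id

/-- the contracting homotopy `L Φ L (next K) ⟶ L Φ L K` -/
noncomputable def hh : (Lc L).obj (Tc L Φ (next adj K)) ⟶ (Lc L).obj (Tc L Φ K) :=
  ρc adj (next adj K) ≫ sL hK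

lemma contraction :
    hh hK ≫ (Lc L).map (dK adj K) + (Lc L).map (dK adj (next adj K)) ≫ hh hK.succ =
      𝟙 ((Lc L).obj (Tc L Φ (next adj K))) := by
  have h1 : hh hK ≫ (Lc L).map (dK adj K) =
      ρc adj (next adj K) ≫ (Lc L).map (ηc adj (next adj K)) := by
    dsimp only [hh, dK]
    rw [Functor.map_comp, Category.assoc, reassoc_of% (sL_π hK)]
  have h2 : (Lc L).map (dK adj (next adj K)) ≫ hh hK.succ =
      (Lc L).map (πc adj (next adj K)) ≫ sL hK.succ := by
    dsimp only [hh, dK]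
    rw [Functor.map_comp, Category.assoc, reassoc_of% (map_ηc_ρc adj (next adj (next adj K)))]
  rw [h1, h2]
  exact ρc_η_add hK.succ

include hK in
lemma exact_homologyMap_map_dK (k : ℕ) :
    (ShortComplex.mk (homologyMap ((Lc L).map (dK adj K)) k)
      (homologyMap ((Lc L).map (dK adj (next adj K))) k) (homologyMap_map_dK_comp K k)).Exact := by
  refine exact_of_contraction _ _ _ (homologyMap (hh hK) k) (homologyMap (hh hK.succ) k) ?_
  rw [← homologyMap_comp, ← homologyMap_comp, ← homologyMap_add, contraction, homologyMap_id]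

include hK in
/-- `L` applied to the homology of the `E₁`-row vanishes -/
lemma isZero_map_homology_E₁ (k : ℕ) :
    IsZero (L.obj (ShortComplex.mk (homologyMap (dK adj K) k)
      (homologyMap (dK adj (next adj K)) k) (homologyMap_dK_comp K k)).homology) := by
  set S := ShortComplex.mk (homologyMap (dK adj K) k)
      (homologyMap (dK adj (next adj K)) k) (homologyMap_dK_comp K k)
  have e : ShortComplex.mk (homologyMap ((Lc L).map (dK adj K)) k)
      (homologyMap ((Lc L).map (dK adj (next adj K))) k) (homologyMap_map_dK_comp K k) ≅ S.map L :=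
    ShortComplex.isoMk (homIso L _ k) (homIso L _ k) (homIso L _ k)
      (homIso_hom_naturality L _ k).symm (homIso_hom_naturality L _ k).symm
  have hex : (S.map L).Exact := ShortComplex.exact_of_iso e (exact_homologyMap_map_dK hK k)
  exact (ShortComplex.exact_iff_isZero_homology _).1 hex |>.of_iso (S.mapHomologyIso L).symm

end Main

section Final

variable [L.PreservesInjectiveObjects] [HasInjectiveResolutions 𝒲] [PreservesFiniteLimits Φ]
  (PA : ObjectProperty 𝒜) (PW : ObjectProperty 𝒲) [WSerre.IsWeakSerre PA] [WSerre.IsWeakSerre PW]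
  (hL : ∀ X, PA X → PW (L.obj X))
  (hΦ : ∀ X, PW X → ∀ i, PA ((Φ.rightDerived i).obj X))
  (hDet : ∀ {X Y : 𝒜} (i : X ⟶ Y), Mono i → PA Y → IsZero (L.obj X) → IsZero X)
  (n : ℕ)

omit [PreservesFiniteLimits L] [PreservesFiniteColimits L] [Φ.Additive] [HasInjectiveResolutions 𝒲]
  [PreservesFiniteLimits Φ] in
lemma injective_Lc {K : CochainComplex 𝒜 ℕ} (hK : Good adj K) (q : ℕ) :
    Injective (((Lc L).obj K).X q) := by
  have := hK.inj q
  exact L.injective_obj _

include hΦ in
lemma prop_homology_Tc {K : CochainComplex 𝒜 ℕ} (hK : Good adj K)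
    (h : ∀ j, j ≤ n → PW (((Lc L).obj K).homology j)) :
    ∀ j, j ≤ n → PA ((Tc L Φ K).homology j) :=
  prop_homology_mapCx hΦ (injective_Lc hK) n h

include hL in
lemma prop_homology_Lc_next {K : CochainComplex 𝒜 ℕ} (hK : Good adj K)
    (h : ∀ j, j ≤ n → PA ((Tc L Φ K).homology j)) :
    ∀ j, j ≤ n → PW (((Lc L).obj (next adj K)).homology j) := by
  intro j hj
  have h1 : PW (((Lc L).obj (Tc L Φ K)).homology j) :=
    PW.prop_of_iso (homIso L _ j).symm (hL _ (h j hj))
  refine prop_of_retract PW (homologyMap (sL hK) j) (homologyMap ((Lc L).map (πc adj K)) j) ?_ h1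
  rw [← homologyMap_comp, sL_π, homologyMap_id]

include hL hΦ in
lemma prop_homology_all {K₀ : CochainComplex 𝒜 ℕ} (hK₀ : Good adj K₀)
    (h0 : ∀ j, j ≤ n → PA (K₀.homology j)) :
    ∀ p, (∀ j, j ≤ n → PW (((Lc L).obj (Kp adj K₀ p)).homology j)) ∧
      ∀ j, j ≤ n → PA ((Tc L Φ (Kp adj K₀ p)).homology j) := by
  intro p
  induction p with
  | zero =>
    have h1 : ∀ j, j ≤ n → PW (((Lc L).obj (Kp adj K₀ 0)).homology j) := fun j hj =>
      PW.prop_of_iso (homIso L K₀ j).symm (hL _ (h0 j hj))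
    exact ⟨h1, prop_homology_Tc PA PW hΦ n (good_Kp hK₀ 0) h1⟩
  | succ p ih =>
    have h1 : ∀ j, j ≤ n → PW (((Lc L).obj (Kp adj K₀ (p + 1))).homology j) :=
      prop_homology_Lc_next PA PW hL n (good_Kp hK₀ p) ih.2
    exact ⟨h1, prop_homology_Tc PA PW hΦ n (good_Kp hK₀ (p + 1)) h1⟩

include hDet in
lemma exact_E₁ {K : CochainComplex 𝒜 ℕ} (hK : Good adj K) (k : ℕ)
    (h1 : PA ((Tc L Φ K).homology k)) (h2 : PA ((Tc L Φ (next adj K)).homology k))
    (h3 : PA ((Tc L Φ (next adj (next adj K))).homology k)) :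
    (ShortComplex.mk (homologyMap (dK adj K) k)
      (homologyMap (dK adj (next adj K)) k) (homologyMap_dK_comp K k)).Exact := by
  set S := ShortComplex.mk (homologyMap (dK adj K) k)
      (homologyMap (dK adj (next adj K)) k) (homologyMap_dK_comp K k)
  have hP : PA S.homology := prop_homology PA S h1 h2 h3
  have hZ : IsZero (L.obj S.homology) := isZero_map_homology_E₁ hK k
  have : IsZero S.homology := hDet (𝟙 S.homology) inferInstance hP hZ
  exact (ShortComplex.exact_iff_isZero_homology S).2 this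

include hL hΦ hDet in
/-- **Theorem A**: the unit of `Hⁿ⁺¹(K₀)` is a monomorphism. -/
theorem mono_unit_homology {K₀ : CochainComplex 𝒜 ℕ} (hK₀ : Good adj K₀)
    (h0 : PA (K₀.homology 0)) (hv : ∀ j, 1 ≤ j → j ≤ n → IsZero (K₀.homology j)) :
    Mono (adj.unit.app (K₀.homology (n + 1))) := by
  have h0' : ∀ j, j ≤ n → PA (K₀.homology j) := by
    intro j hj
    obtain _ | j := j
    · exact h0
    · exact PA.prop_of_isZero (hv (j + 1) (by omega) hj)
  have hall := prop_homology_all PA PW hL hΦ n hK₀ h0'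
  -- the zigzag
  have hE : ∀ p k, k ≤ n → (ShortComplex.mk (homologyMap ((tower hK₀).d p) k)
      (homologyMap ((tower hK₀).d (p + 1)) k) ((tower hK₀).homologyMap_d_comp p k)).Exact :=
    fun p k hk => exact_E₁ PA hDet (good_Kp hK₀ p) k ((hall p).2 k hk) ((hall (p + 1)).2 k hk)
      ((hall (p + 1 + 1)).2 k hk)
  have zig : Mono (homologyMap (ηc adj K₀) (n + 1)) := (tower hK₀).mono_homologyMap_η n hE
  -- the structure of `Hⁿ⁺¹(Φ L K₀)`
  obtain ⟨Q, ι, N, c, w, hQ, hι, hex⟩ :=
    exists_kernel_prop (Φ := Φ) (M := (Lc L).obj K₀) hΦ (injective_Lc hK₀) n (hall 0).1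
  -- the kernel of the unit
  set R := K₀.homology (n + 1)
  let κ := kernel.ι (adj.unit.app R)
  have hLK : IsZero (L.obj (kernel (adj.unit.app R))) := by
    have h1 : L.map κ ≫ L.map (adj.unit.app R) = 0 := by
      rw [← L.map_comp, kernel.condition, L.map_zero]
    have h2 : Mono (L.map (adj.unit.app R)) :=
      (SplitMono.mk _ (adj.left_triangle_components R)).mono
    have h3 : L.map κ = 0 := by
      rw [← cancel_mono (L.map (adj.unit.app R)), h1, zero_comp]
    have h4 : Mono (L.map κ) := inferInstance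
    exact IsZero.of_mono_eq_zero _ h3
  -- maps from the kernel to `Φ N` vanish
  have hz : ∀ (g : kernel (adj.unit.app R) ⟶ Φ.obj N), g = 0 := by
    intro g
    have h1 : (adj.homEquiv _ _).symm g = 0 := hLK.eq_of_src _ _
    have h2 := congrArg (adj.homEquiv _ _) h1
    rw [Equiv.apply_symm_apply] at h2
    rw [h2, Adjunction.homEquiv_unit, Functor.map_zero, comp_zero]
  have hk : (κ ≫ homologyMap (ηc adj K₀) (n + 1)) ≫ c = 0 := hz _
  let l : kernel (adj.unit.app R) ⟶ Q := hex.lift (κ ≫ homologyMap (ηc adj K₀) (n + 1)) hk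
  have hl : l ≫ ι = κ ≫ homologyMap (ηc adj K₀) (n + 1) := hex.lift_f _ hk
  have hlm : Mono l := by
    have : Mono (l ≫ ι) := by
      rw [hl]
      infer_instance
    exact mono_of_mono l ι
  have hK0 : IsZero (kernel (adj.unit.app R)) := hDet l hlm hQ hLK
  exact Preadditive.mono_of_kernel_zero (hK0.eq_of_src _ _)

end Final

end Groth.Agent.Lib.Helper74.CmpSit
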