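import Groth.Agent.Lib.Helper74.CmpSit.OverSite
import Groth.Agent.Lib.Helper74.CmpSit.TheoremA

/-!
# The compare situation: vanishing of `Rⁱε_*` (helper74)
-/

set_option autoImplicit false

universe u

open CategoryTheory CategoryTheory.Limits Opposite HomologicalComplex

namespace Groth.Agent.Lib.Helper74.CmpSit

section B1

variable {D : Type u} [SmallCategory D]

/-- sieve of arrows along which `s` restricts to zero -/
def vanishSieve (R : Dᵒᵖ ⥤ AddCommGrpCat.{u}) {U : D} (s : R.obj (op U)) : Sieve U where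
  arrows V a := R.map a.op s = 0
  downward_closed := by
    intro V V' a ha b
    show R.map (b ≫ a).op s = 0
    rw [op_comp, Functor.map_comp, ConcreteCategory.comp_apply, ha, map_zero]

lemma vanishSieve_apply (R : Dᵒᵖ ⥤ AddCommGrpCat.{u}) {U V : D} (s : R.obj (op U)) (a : V ⟶ U) :
    vanishSieve R s a ↔ R.map a.op s = 0 := Iff.rfl

variable {K K' : GrothendieckTopology D} (h : K' ≤ K)

/-- the complex `ε_* I` -/
noncomputable abbrev epsCx (I : CochainComplex (Sheaf K AddCommGrpCat.{u}) ℕ) :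
    CochainComplex (Sheaf K' AddCommGrpCat.{u}) ℕ :=
  ((SiteCmp.epsSh h AddCommGrpCat.{u}).mapHomologicalComplex (ComplexShape.up ℕ)).obj I

/-- **(B1)** a section of `Hᵠ⁺¹(ε_* I)` vanishes locally for the finer topology if `I` is
exact in degree `q + 1`. -/
lemma vanishSieve_mem (I : CochainComplex (Sheaf K AddCommGrpCat.{u}) ℕ) (q : ℕ)
    (hI : (I.sc' q (q + 1) (q + 2)).Exact) {U : D}
    (s : ((epsCx h I).homology (q + 1)).obj.obj (op U)) :
    vanishSieve ((epsCx h I).homology (q + 1)).obj s ∈ K U := by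
  obtain ⟨S₁, hS₁, hlift⟩ := exists_cover_of_epi ((epsCx h I).homologyπ (q + 1)) U s
  refine K.transitive (h _ hS₁) _ ?_
  intro V g hg
  obtain ⟨z, hz⟩ := hlift V g hg
  let y : (I.X (q + 1)).obj.obj (op V) := ((epsCx h I).iCycles (q + 1)).hom.app (op V) z
  have hy : (I.d (q + 1) (q + 2)).hom.app (op V) y = 0 := by
    have h1 := (epsCx h I).iCycles_d (q + 1) (q + 2)
    have h2 := congrArg (fun (t : (epsCx h I).cycles (q + 1) ⟶ (epsCx h I).X (q + 2)) =>
      t.hom.app (op V) z) h1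
    exact h2
  obtain ⟨T, hT, hx⟩ := exists_cover_of_exact (I.sc' q (q + 1) (q + 2)) hI V y hy
  refine K.superset_covering ?_ hT
  intro V' k hk
  obtain ⟨x, hx⟩ := hx V' k hk
  change (I.X q).obj.obj (op V') at x
  change (I.d q (q + 1)).hom.app (op V') x = (I.X (q + 1)).obj.map k.op y at hx
  show ((epsCx h I).homology (q + 1)).obj.map (k ≫ g).op s = 0
  rw [op_comp, Functor.map_comp, ConcreteCategory.comp_apply, ← hz]
  have hnat : ((epsCx h I).homology (q + 1)).obj.map k.op
      (((epsCx h I).homologyπ (q + 1)).hom.app (op V) z) =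
      ((epsCx h I).homologyπ (q + 1)).hom.app (op V')
        (((epsCx h I).cycles (q + 1)).obj.map k.op z) :=
    (ConcreteCategory.congr_hom (((epsCx h I).homologyπ (q + 1)).hom.naturality k.op) z).symm
  rw [hnat]
  have hz' : ((epsCx h I).cycles (q + 1)).obj.map k.op z =
      ((epsCx h I).toCycles q (q + 1)).hom.app (op V') x := by
    apply injective_of_mono ((epsCx h I).iCycles (q + 1)) V'
    have e1 : ((epsCx h I).iCycles (q + 1)).hom.app (op V')
        (((epsCx h I).cycles (q + 1)).obj.map k.op z) = (I.X (q + 1)).obj.map k.op y :=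
      ConcreteCategory.congr_hom (((epsCx h I).iCycles (q + 1)).hom.naturality k.op) z
    have e2 : ((epsCx h I).iCycles (q + 1)).hom.app (op V')
        (((epsCx h I).toCycles q (q + 1)).hom.app (op V') x) =
        (I.d q (q + 1)).hom.app (op V') x := by
      have h1 := (epsCx h I).toCycles_i q (q + 1)
      exact congrArg (fun (t : (epsCx h I).X q ⟶ (epsCx h I).X (q + 1)) =>
        t.hom.app (op V') x) h1
    rw [e1, e2, hx]
  rw [hz']
  have h1 := (epsCx h I).toCycles_comp_homologyπ q (q + 1)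
  exact congrArg (fun (t : (epsCx h I).X q ⟶ (epsCx h I).homology (q + 1)) =>
    t.hom.app (op V') x) h1

end B1

section B3

variable {C : Type u} [SmallCategory C] {J J' : GrothendieckTopology C} (h : J' ≤ J)

/-- `ε_{X,*}` -/
noncomputable abbrev epsX (X : C) : Sh J X ⥤ Sh J' X :=
  SiteCmp.epsSh (SiteCmp.over_le h X) AddCommGrpCat.{u}

instance (X : C) : PreservesFiniteLimits (epsX h X) := by
  have := (epsAdj' (SiteCmp.over_le h X)).rightAdjoint_preservesLimits
  infer_instance

variable {X X' W : C} (p : X' ⟶ X) (w : W ⟶ X')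
  (hw : Sieve.ofArrows (fun _ : PUnit.{u + 1} => W) (fun _ => w) ∈ J X')
  (PX : ObjectProperty (Sh J' X)) (PA : ObjectProperty (Sh J' X'))
  (PW : ObjectProperty (Sh J' W))
  [WSerre.IsWeakSerre PA] [WSerre.IsWeakSerre PW]
  (h2p : ∀ F', PX F' → PA ((restr J' p).obj F'))
  (h2w : ∀ F', PA F' → PW ((restr J' w).obj F'))
  (h3 : ∀ F', PA F' → Presheaf.IsSheaf (J.over X') F'.obj)
  (h4w : ∀ F', PW F' → ∀ i, PA (((pushf J' w).rightDerived i).obj F'))
  {F : Sh J X} (hF : PX ((epsX h X).obj F)) (I : InjectiveResolution F) (n : ℕ)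
  (hV : ∀ j, 1 ≤ j → j ≤ n →
    IsZero ((epsCx (SiteCmp.over_le h X) I.cocomplex).homology j))

include hw h2p h2w h3 h4w hF hV in
/-- **(B3)** the unit of the restriction of `Hⁿ⁺¹(ε_* I)` is a monomorphism -/
lemma mono_unit_restr_homology :
    Mono ((adjf J' w).unit.app
      ((restr J' p).obj ((epsCx (SiteCmp.over_le h X) I.cocomplex).homology (n + 1)))) := by
  set 𝕂 := epsCx (SiteCmp.over_le h X) I.cocomplex with h𝕂
  let K₀ := (Lc (restr J' p)).obj 𝕂
  have hK₀ : Good (adjf J' w) K₀ := by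
    constructor
    · intro q
      have : Injective (I.cocomplex.X q) := I.injective q
      have h2 : Injective (𝕂.X q) := (epsX h X).injective_obj (I.cocomplex.X q)
      exact (restr J' p).injective_obj (𝕂.X q)
    · intro q
      refine mono_unit_of_isSheaf w J hw _ ?_
      exact ((restr J p).obj (I.cocomplex.X q)).property
  have h0 : PA (K₀.homology 0) := by
    have e1 : 𝕂.homology 0 ≅ (epsX h X).obj F :=
      (I.isoRightDerivedObj (epsX h X) 0).symm ≪≫
        (Functor.rightDerivedZeroIsoSelf (epsX h X)).app F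
    exact PA.prop_of_iso ((restr J' p).mapIso e1.symm ≪≫ (homIso (restr J' p) 𝕂 0).symm)
      (h2p _ hF)
  have hv : ∀ j, 1 ≤ j → j ≤ n → IsZero (K₀.homology j) := fun j h1 h2 =>
    ((restr J' p).map_isZero (hV j h1 h2)).of_iso (homIso (restr J' p) 𝕂 j)
  have hDet : ∀ {N M : Sh J' X'} (i : N ⟶ M), Mono i → PA M →
      IsZero ((restr J' w).obj N) → IsZero N :=
    fun i hi hM hN => isZero_of_restr_isZero w J hw i (h3 _ hM) hN
  have main : Mono ((adjf J' w).unit.app (K₀.homology (n + 1))) :=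
    mono_unit_homology (adj := adjf J' w) PA PW h2w h4w hDet n hK₀ h0 hv
  let e := homIso (restr J' p) 𝕂 (n + 1)
  have hnat : e.inv ≫ (adjf J' w).unit.app (K₀.homology (n + 1)) =
      (adjf J' w).unit.app ((restr J' p).obj (𝕂.homology (n + 1))) ≫
        (pushf J' w).map ((restr J' w).map e.inv) :=
    (adjf J' w).unit.naturality e.inv
  have h1 : Mono (e.inv ≫ (adjf J' w).unit.app (K₀.homology (n + 1))) := mono_comp _ _
  rw [hnat] at h1
  exact mono_of_mono _ ((pushf J' w).map ((restr J' w).map e.inv))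

end B3

section Main

variable {C : Type u} [SmallCategory C] {J J' : GrothendieckTopology C} (h : J' ≤ J)
  (P : MorphismProperty C)
  (A' : ∀ X : C, ObjectProperty (Sheaf (J'.over X) AddCommGrpCat.{u}))
  [∀ X : C, WSerre.IsWeakSerre (A' X)]
  (h2 : ∀ ⦃X Y : C⦄ (f : X ⟶ Y) (F' : Sheaf (J'.over Y) AddCommGrpCat.{u}), A' Y F' →
    A' X ((CohSite.push (J'.over Y) (J'.over X) (Over.map f)).obj F'))
  (h3 : ∀ (X : C) (F' : Sheaf (J'.over X) AddCommGrpCat.{u}), A' X F' →
    Presheaf.IsSheaf (J.over X) F'.obj)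
  (h4 : ∀ ⦃X Y : C⦄ (f : X ⟶ Y)
    [((Over.map f).sheafPushforwardCocontinuous AddCommGrpCat.{u} (J'.over X)
      (J'.over Y)).Additive],
    P f → ∀ (F' : Sheaf (J'.over X) AddCommGrpCat.{u}), A' X F' → ∀ i : ℕ,
      A' Y ((((Over.map f).sheafPushforwardCocontinuous AddCommGrpCat.{u} (J'.over X)
        (J'.over Y)).rightDerived i).obj F'))
  (h5 : ∀ (U : C) (S : Sieve U), S ∈ J U → ∃ (ι : Type u) (V : ι → C) (v : ∀ j, V j ⟶ U),
    Sieve.ofArrows V v ∈ J' U ∧ ∀ j, ∃ (W : C) (w : W ⟶ V j), P w ∧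
      Sieve.ofArrows (fun _ : PUnit.{u + 1} => W) (fun _ => w) ∈ J (V j) ∧
      ∃ (κ : Type u) (Wk : κ → C) (wk : ∀ k, Wk k ⟶ W), Sieve.ofArrows Wk wk ∈ J' W ∧
        ∀ k, S.arrows (wk k ≫ w ≫ v j))
  {X : C} {F : Sh J X} (hF : A' X ((epsX h X).obj F)) (I : InjectiveResolution F)

include h2 h3 h4 h5 hF in
/-- the inductive step `V(n) ⇒ V(n+1)` at a fixed `(X, F)` -/
lemma isZero_homology_succ (n : ℕ)
    (hV : ∀ j, 1 ≤ j → j ≤ n →
      IsZero ((epsCx (SiteCmp.over_le h X) I.cocomplex).homology j)) :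
    IsZero ((epsCx (SiteCmp.over_le h X) I.cocomplex).homology (n + 1)) := by
  set R := (epsCx (SiteCmp.over_le h X) I.cocomplex).homology (n + 1) with hR
  apply isZero_of_sections
  intro U s
  have hex : (I.cocomplex.sc' n (n + 1) (n + 2)).Exact :=
    (I.cocomplex.exactAt_iff' n (n + 1) (n + 2) (by simp) (by simp)).1
      (I.cocomplex_exactAt_succ n)
  have hS : vanishSieve R.obj s ∈ J.over X U :=
    vanishSieve_mem (SiteCmp.over_le h X) I.cocomplex n hex s
  rw [GrothendieckTopology.mem_over_iff] at hS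
  obtain ⟨ι, V, v, hv, hj⟩ := h5 U.left _ hS
  have key : ∀ (T : Over X) (g : T ⟶ U),
      Sieve.overEquiv U (vanishSieve R.obj s) g.left → R.obj.map g.op s = 0 := by
    intro T g hg
    have h1 : (Sieve.overEquiv U).symm (Sieve.overEquiv U (vanishSieve R.obj s)) g :=
      (Sieve.overEquiv_symm_iff _ g).2 hg
    rw [OrderIso.symm_apply_apply] at h1
    exact h1
  refine eq_zero_of_cover R s ((Sieve.overEquiv U).symm (Sieve.ofArrows V v)) ?_ ?_
  · rw [GrothendieckTopology.mem_over_iff, OrderIso.apply_symm_apply]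
    exact hv
  intro T g hg
  rw [Sieve.overEquiv_symm_iff, Sieve.mem_ofArrows_iff] at hg
  obtain ⟨j, a, ha⟩ := hg
  obtain ⟨W, w, hPw, hwJ, κ, Wk, wk, hwk, hSk⟩ := hj j
  let p : V j ⟶ X := v j ≫ U.hom
  let O : Over X := (Over.map p).obj (Over.mk (𝟙 (V j)))
  let a₀ : O ⟶ U := Over.homMk (v j) (by simp [O, p])
  have hTw : T.hom = a ≫ v j ≫ U.hom := by
    rw [← Over.w g, ha, Category.assoc]
  let a₁ : T ⟶ O := Over.homMk a (by simp [O, p, hTw])
  have hg' : g = a₁ ≫ a₀ := by
    ext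
    simp [a₁, a₀, ha]
  rw [hg', op_comp, Functor.map_comp, ConcreteCategory.comp_apply]
  suffices hs' : R.obj.map a₀.op s = 0 by rw [hs', map_zero]
  haveI hmono := mono_unit_restr_homology h p w hwJ (A' X) (A' (V j)) (A' W) (h2 p) (h2 w)
    (h3 (V j)) (fun F' hF' i => h4 w hPw F' hF' i) hF I n hV
  refine eq_zero_of_mono_unit J' w ((restr J' p).obj R) (Over.mk (𝟙 (V j)))
    (R.obj.map a₀.op s) ?_
  intro T' φ
  show R.obj.map ((Over.map p).map φ).op (R.obj.map a₀.op s) = 0
  rw [← ConcreteCategory.comp_apply, ← Functor.map_comp, ← op_comp]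
  have hφ : φ.left = T'.hom ≫ w := by
    have := Over.w φ
    simpa using this
  refine eq_zero_of_cover R _ ((Sieve.overEquiv ((Over.map p).obj ((Over.map w).obj T'))).symm
    (Sieve.pullback T'.hom (Sieve.ofArrows Wk wk))) ?_ ?_
  · rw [GrothendieckTopology.mem_over_iff, OrderIso.apply_symm_apply]
    exact J'.pullback_stable _ hwk
  intro T'' c hc
  rw [Sieve.overEquiv_symm_iff, Sieve.pullback_apply, Sieve.mem_ofArrows_iff] at hc
  obtain ⟨k, d, hd⟩ := hc
  rw [← ConcreteCategory.comp_apply, ← Functor.map_comp, ← op_comp]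
  apply key
  have hl : (c ≫ (Over.map p).map φ ≫ a₀).left = d ≫ (wk k ≫ w ≫ v j) := by
    simp [a₀, hφ, reassoc_of% hd]
  rw [hl]
  exact Sieve.downward_closed _ (hSk k) d

include h2 h3 h4 h5 hF in
lemma isZero_homology_all : ∀ (n j : ℕ), 1 ≤ j → j ≤ n →
    IsZero ((epsCx (SiteCmp.over_le h X) I.cocomplex).homology j)
  | 0, j, h1, h2' => by omega
  | n + 1, j, h1, h2' => by
    rcases Nat.lt_or_ge j (n + 1) with hlt | hge
    · exact isZero_homology_all n j h1 (by omega)
    · obtain rfl : j = n + 1 := by omega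
      exact isZero_homology_succ h P A' h2 h3 h4 h5 hF I n (isZero_homology_all n)

include h2 h3 h4 h5 hF in
/-- **Stacks 21.30 (vanishing)**: `Rⁱ ε_{X,*} F = 0` for `i ≥ 1` in a compare situation. -/
theorem isZero_rightDerived_eps (i : ℕ) (hi : 1 ≤ i) :
    IsZero (((epsX h X).rightDerived i).obj F) :=
  (isZero_homology_all h P A' h2 h3 h4 h5 hF (injectiveResolution F) i i hi le_rfl).of_iso
    ((injectiveResolution F).isoRightDerivedObj (epsX h X) i)

end Main

end Groth.Agent.Lib.Helper74.CmpSit
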