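import Groth.Agent.Lib.Helper74.CmpSit.EpsBasics
import Groth.Agent.Lib.Helper74.CmpSit.TheoremB
import Groth.Agent.Lib.Helper5.SiteCoh

/-!
# Comparing cohomology for two topologies on `ε_*`-acyclic sheaves (helper74)
-/

set_option autoImplicit false

universe u

open CategoryTheory CategoryTheory.Limits Opposite HomologicalComplex

namespace Groth.Agent.Lib.Helper74.CmpSit

section

variable {D : Type u} [SmallCategory D] {K K' : GrothendieckTopology D} (h : K' ≤ K)

/-- the augmentation `ε_* G ⟶ ε_* I⁰` -/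
noncomputable def epsResι {G : Sheaf K AddCommGrpCat.{u}} (I : InjectiveResolution G) :
    (CochainComplex.single₀ _).obj ((SiteCmp.epsSh h AddCommGrpCat.{u}).obj G) ⟶
      epsCx h I.cocomplex :=
  (CochainComplex.fromSingle₀Equiv _ _).symm
    ⟨(SiteCmp.epsSh h AddCommGrpCat.{u}).map (I.ι.f 0 : G ⟶ I.cocomplex.X 0), by
      have h1 : (I.ι.f 0 : G ⟶ I.cocomplex.X 0) ≫ I.cocomplex.d 0 1 = 0 :=
        I.ι_f_zero_comp_complex_d
      show (SiteCmp.epsSh h AddCommGrpCat.{u}).map (I.ι.f 0 : G ⟶ I.cocomplex.X 0) ≫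
        (SiteCmp.epsSh h AddCommGrpCat.{u}).map (I.cocomplex.d 0 1) = 0
      rw [← Functor.map_comp, h1, Functor.map_zero]⟩

lemma epsResι_f_zero {G : Sheaf K AddCommGrpCat.{u}} (I : InjectiveResolution G) :
    (epsResι h I).f 0 =
      (SiteCmp.epsSh h AddCommGrpCat.{u}).map (I.ι.f 0 : G ⟶ I.cocomplex.X 0) :=
  CochainComplex.fromSingle₀Equiv_symm_apply_f_zero _ _

/-- `ε_*` of an injective resolution of an `ε_*`-acyclic sheaf is an injective resolution -/
noncomputable def epsRes {G : Sheaf K AddCommGrpCat.{u}} (I : InjectiveResolution G)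
    (hvan : ∀ n, IsZero ((epsCx h I.cocomplex).homology (n + 1))) :
    InjectiveResolution ((SiteCmp.epsSh h AddCommGrpCat.{u}).obj G) where
  cocomplex := epsCx h I.cocomplex
  injective n := (SiteCmp.epsSh h AddCommGrpCat.{u}).injective_obj (I.cocomplex.X n)
  ι := epsResι h I
  quasiIso := ⟨fun n => by
    cases n with
    | zero =>
      rw [CochainComplex.quasiIsoAt₀_iff, ShortComplex.quasiIso_iff_of_zeros _ rfl rfl
        ((epsCx h I.cocomplex).shape 0 0 (by simp))]
      have hex := I.exact₀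
      have hmono : Mono (I.ι.f 0) := inferInstance
      have hex' := hex.map_of_mono_of_preservesKernel (SiteCmp.epsSh h AddCommGrpCat.{u})
        hmono inferInstance
      refine (ShortComplex.exact_and_mono_f_iff_of_iso ?_).2
        ⟨hex', inferInstanceAs (Mono ((SiteCmp.epsSh h AddCommGrpCat.{u}).map (I.ι.f 0)))⟩
      refine ShortComplex.isoMk (Iso.refl _) (Iso.refl _) (Iso.refl _) ?_ ?_
      · refine (Category.id_comp _).trans (Eq.trans ?_ (Category.comp_id _).symm)
        exact (epsResι_f_zero h I).symm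
      · exact (Category.id_comp _).trans (Category.comp_id _).symm
    | succ n =>
      rw [quasiIsoAt_iff_exactAt]
      · rw [exactAt_iff_isZero_homology]
        exact hvan n
      · apply CochainComplex.exactAt_succ_single_obj⟩

/-- the forgetful functors to presheaves are compatible with `ε_*` -/
noncomputable def epsCompForget :
    SiteCmp.epsSh h AddCommGrpCat.{u} ⋙ sheafToPresheaf K' AddCommGrpCat.{u} ≅
      sheafToPresheaf K AddCommGrpCat.{u} :=
  NatIso.ofComponents (fun G => NatIso.ofComponents (fun U => Iso.refl _)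
    (fun f => (Category.comp_id _).trans (Category.id_comp _).symm)) (fun f => by
      ext U : 2
      exact (Category.comp_id _).trans (Category.id_comp _).symm)

/-- the derived functors of the forgetful functors agree on `ε_*`-acyclic sheaves -/
theorem rightDerived_forget_iso {G : Sheaf K AddCommGrpCat.{u}}
    (hvan : ∀ i, 1 ≤ i → IsZero (((SiteCmp.epsSh h AddCommGrpCat.{u}).rightDerived i).obj G))
    (n : ℕ) :
    Nonempty (((sheafToPresheaf K' AddCommGrpCat.{u}).rightDerived n).obj
      ((SiteCmp.epsSh h AddCommGrpCat.{u}).obj G) ≅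
        ((sheafToPresheaf K AddCommGrpCat.{u}).rightDerived n).obj G) := by
  let I := injectiveResolution G
  have hvan' : ∀ n, IsZero ((epsCx h I.cocomplex).homology (n + 1)) := fun n =>
    (hvan (n + 1) (by omega)).of_iso
      (I.isoRightDerivedObj (SiteCmp.epsSh h AddCommGrpCat.{u}) (n + 1)).symm
  let I' := epsRes h I hvan'
  let e2 := I'.isoRightDerivedObj (sheafToPresheaf K' AddCommGrpCat.{u}) n
  let e1 := I.isoRightDerivedObj (sheafToPresheaf K AddCommGrpCat.{u}) n
  let e3 : ((sheafToPresheaf K' AddCommGrpCat.{u}).mapHomologicalComplex _).obj I'.cocomplex ≅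
      ((sheafToPresheaf K AddCommGrpCat.{u}).mapHomologicalComplex _).obj I.cocomplex :=
    HomologicalComplex.Hom.isoOfComponents (fun i => (epsCompForget h).app (I.cocomplex.X i))
      (fun i j _ => ((epsCompForget h).hom.naturality (I.cocomplex.d i j)).symm)
  exact ⟨e2 ≪≫ (HomologicalComplex.homologyFunctor _ _ n).mapIso e3 ≪≫ e1.symm⟩

/-- **Cohomology comparison** for `ε_*`-acyclic sheaves. -/
theorem HU_eps_addEquiv {G : Sheaf K AddCommGrpCat.{u}}
    (hvan : ∀ i, 1 ≤ i → IsZero (((SiteCmp.epsSh h AddCommGrpCat.{u}).rightDerived i).obj G))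
    (n : ℕ) (U : D) :
    Nonempty (CohSite.HU ((SiteCmp.epsSh h AddCommGrpCat.{u}).obj G) n U ≃+
      CohSite.HU G n U) := by
  obtain ⟨e⟩ := rightDerived_forget_iso h hvan n
  obtain ⟨a⟩ := Groth.Agent.Lib.Helper5.SiteCoh.rightDerived_sheafToPresheaf_iso n G
  obtain ⟨b⟩ := Groth.Agent.Lib.Helper5.SiteCoh.rightDerived_sheafToPresheaf_iso n
    ((SiteCmp.epsSh h AddCommGrpCat.{u}).obj G)
  exact ⟨(((evaluation _ _).obj (op U)).mapIso (b.symm ≪≫ e ≪≫ a)).addCommGroupIsoToAddEquiv⟩

/-- cohomology is invariant under isomorphisms of sheaves -/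
theorem HU_addEquiv_of_iso {G G' : Sheaf K AddCommGrpCat.{u}} (e : G ≅ G') (n : ℕ) (U : D) :
    Nonempty (CohSite.HU G n U ≃+ CohSite.HU G' n U) :=
  ⟨(((evaluation _ _).obj (op U)).mapIso
    ((Sheaf.cohomologyPresheafFunctor.{u} K n).mapIso e)).addCommGroupIsoToAddEquiv⟩

end

end Groth.Agent.Lib.Helper74.CmpSit
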