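import Groth.Agent.Lib.Helper74.CmpSit.OverSite
import Groth.Agent.Lib.Helper5.RDerShift
import Groth.Prelude.Def_WeakSerre

/-!
# `ε_*` for two topologies: full faithfulness, essential image, weak Serre inverse images (helper74)
-/

set_option autoImplicit false

universe u

open CategoryTheory CategoryTheory.Limits Opposite

namespace Groth.Agent.Lib.Helper74.CmpSit

section Abstract

variable {𝒜 ℬ : Type*} [Category 𝒜] [Category ℬ] [Abelian 𝒜] [Abelian ℬ]
  (ε : 𝒜 ⥤ ℬ) [ε.Additive]

/-- cokernels along a fully faithful functor, when the target class lies in the essential image -/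
lemma prop_cokernel_of_fullyFaithful (ff : ε.FullyFaithful) (P : ObjectProperty ℬ)
    [P.IsClosedUnderIsomorphisms] [P.IsClosedUnderCokernels]
    (hess : ∀ B, P B → ∃ A, Nonempty (B ≅ ε.obj A))
    {F G : 𝒜} (φ : F ⟶ G) (hF : P (ε.obj F)) (hG : P (ε.obj G)) (c : CokernelCofork φ)
    (hc : IsColimit c) : P (ε.obj c.pt) := by
  have hQ' : P (cokernel (ε.map φ)) := P.prop_cokernel (ε.map φ) hF hG
  obtain ⟨Q, ⟨e⟩⟩ := hess _ hQ'
  let π : G ⟶ Q := ff.preimage (cokernel.π (ε.map φ) ≫ e.hom)
  have hπ : ε.map π = cokernel.π (ε.map φ) ≫ e.hom := ff.map_preimage _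
  have w : φ ≫ π = 0 := by
    apply ff.map_injective
    rw [ε.map_comp, hπ, cokernel.condition_assoc, zero_comp, ε.map_zero]
  have hcol : IsColimit (CokernelCofork.ofπ π w) :=
    CokernelCofork.IsColimit.ofπ π w
      (fun {T} ψ hψ => ff.preimage (e.inv ≫ cokernel.desc (ε.map φ) (ε.map ψ)
        (by rw [← ε.map_comp, hψ, ε.map_zero])))
      (fun {T} ψ hψ => by
        apply ff.map_injective
        rw [ε.map_comp, hπ, ff.map_preimage, Category.assoc, e.hom_inv_id_assoc,
          cokernel.π_desc])
      (fun {T} ψ hψ m hm => by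
        apply ff.map_injective
        rw [ff.map_preimage, ← cancel_epi e.hom, e.hom_inv_id_assoc,
          ← cancel_epi (cokernel.π (ε.map φ)), cokernel.π_desc, ← hm, ε.map_comp, hπ,
          Category.assoc])
  have i : c.pt ≅ Q := IsColimit.coconePointUniqueUpToIso hc hcol
  exact P.prop_of_iso (e ≪≫ (ε.mapIso i).symm) hQ'

end Abstract

section Eps

variable {D : Type u} [SmallCategory D] {K K' : GrothendieckTopology D} (h : K' ≤ K)

/-- `ε_*` is fully faithful -/
noncomputable def epsFF : (SiteCmp.epsSh h AddCommGrpCat.{u}).FullyFaithful where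
  preimage {F G} ψ := ⟨{ app := fun U => ψ.hom.app U
                         naturality := fun U V f => ψ.hom.naturality f }⟩
  map_preimage _ := rfl
  preimage_map _ := rfl

/-- a `K'`-sheaf satisfying the `K`-sheaf condition, as a `K`-sheaf -/
def epsLift (G : Sheaf K' AddCommGrpCat.{u}) (hG : Presheaf.IsSheaf K G.obj) :
    Sheaf K AddCommGrpCat.{u} := ⟨G.obj, hG⟩

/-- `ε_*` of the lift is the original sheaf -/
noncomputable def epsLiftIso (G : Sheaf K' AddCommGrpCat.{u}) (hG : Presheaf.IsSheaf K G.obj) :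
    G ≅ (SiteCmp.epsSh h AddCommGrpCat.{u}).obj (epsLift G hG) :=
  (fullyFaithfulSheafToPresheaf K' AddCommGrpCat.{u}).preimageIso
    (NatIso.ofComponents (fun U => Iso.refl _)
      (fun f => (Category.comp_id _).trans (Category.id_comp _).symm))

instance : PreservesFiniteLimits (SiteCmp.epsSh h AddCommGrpCat.{u}) := by
  have := (epsAdj' h).rightAdjoint_preservesLimits
  infer_instance

/-- **Weak Serre inverse image**: if members of `P` satisfy the `K`-sheaf condition and
`R¹ε_*` vanishes on the inverse image of `P`, the inverse image is a weak Serre subcategory. -/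
theorem isWeakSerre_inverseImage (P : ObjectProperty (Sheaf K' AddCommGrpCat.{u}))
    [WSerre.IsWeakSerre P]
    (hsh : ∀ G, P G → Presheaf.IsSheaf K G.obj)
    (hvan : ∀ F, P ((SiteCmp.epsSh h AddCommGrpCat.{u}).obj F) →
      IsZero (((SiteCmp.epsSh h AddCommGrpCat.{u}).rightDerived 1).obj F)) :
    WSerre.IsWeakSerre (P.inverseImage (SiteCmp.epsSh h AddCommGrpCat.{u})) := by
  set ε := SiteCmp.epsSh h AddCommGrpCat.{u} with hε
  haveI : (P.inverseImage ε).ContainsZero := inferInstance
  haveI : (P.inverseImage ε).IsClosedUnderKernels := by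
    constructor
    rintro _ ⟨φ, k, hk, ⟨hF, hG⟩⟩
    have hk' : IsLimit (k.map ε) := KernelFork.mapIsLimit k hk ε
    exact P.prop_of_isLimit_kernelFork hk' hF hG
  haveI : (P.inverseImage ε).IsClosedUnderCokernels := by
    constructor
    rintro _ ⟨φ, c, hc, ⟨hF, hG⟩⟩
    exact prop_cokernel_of_fullyFaithful ε (epsFF h) P
      (fun B hB => ⟨epsLift B (hsh B hB), ⟨epsLiftIso h B (hsh B hB)⟩⟩) φ hF hG c hc
  haveI : (P.inverseImage ε).IsClosedUnderExtensions := by
    constructor
    intro S hS h₁ h₃
    have hepi : Epi (ε.map S.g) :=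
      Groth.Agent.Lib.Helper5.epi_map_g_of_isZero_rightDerived_one ε hS (hvan _ h₁)
    have := hS.mono_f
    have hex : (S.map ε).Exact := hS.exact.map_of_mono_of_preservesKernel ε inferInstance
      inferInstance
    have hS' : (S.map ε).ShortExact :=
      ShortComplex.ShortExact.mk' hex (inferInstanceAs (Mono (ε.map S.f))) hepi
    exact P.prop_X₂_of_shortExact hS' h₁ h₃
  exact {}

end Eps

end Groth.Agent.Lib.Helper74.CmpSit
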