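import Mathlib.CategoryTheory.Sites.EpiMono
import Mathlib.CategoryTheory.Sites.Abelian
import Mathlib.CategoryTheory.Sites.LeftExact
import Mathlib.Algebra.Category.Grp.Abelian
import Mathlib.Algebra.Category.Grp.AB
import Mathlib.Algebra.Homology.ShortComplex.Ab
import Mathlib.Algebra.Homology.ShortComplex.ExactFunctor
import Mathlib.CategoryTheory.Abelian.GrothendieckAxioms.Sheaf
import Mathlib.CategoryTheory.Sites.Limits

/-!
# Sections of abelian sheaves on a small site (helper74)

Elementary section-level lemmas: separatedness, detection of zero objects, monomorphisms are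
injective on sections, epimorphisms are locally surjective, exactness gives local liftings.
-/

set_option autoImplicit false

universe u

open CategoryTheory CategoryTheory.Limits Opposite

namespace Groth.Agent.Lib.Helper74.CmpSit

variable {C : Type u} [SmallCategory C] {J : GrothendieckTopology C}

/-- a section of a separated (e.g. sheaf) abelian presheaf vanishing on a covering sieve is zero -/
lemma eq_zero_of_cover_of_isSheaf {P : Cᵒᵖ ⥤ AddCommGrpCat.{u}} (hP : Presheaf.IsSheaf J P)
    {U : C} (s : P.obj (op U)) (S : Sieve U) (hS : S ∈ J U)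
    (h : ∀ (V : C) (g : V ⟶ U), S g → P.map g.op s = 0) : s = 0 := by
  have hP' := (isSheaf_iff_isSheaf_of_type J _).1
    ((Presheaf.isSheaf_iff_isSheaf_forget J P (forget AddCommGrpCat)).1 hP)
  refine (hP' S hS).isSeparatedFor.ext ?_
  intro V g hg
  refine (h V g hg).trans ?_
  exact (map_zero (P.map g.op).hom).symm

lemma eq_zero_of_cover (F : Sheaf J AddCommGrpCat.{u}) {U : C} (s : F.obj.obj (op U))
    (S : Sieve U) (hS : S ∈ J U)
    (h : ∀ (V : C) (g : V ⟶ U), S g → F.obj.map g.op s = 0) : s = 0 :=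
  eq_zero_of_cover_of_isSheaf F.property s S hS h

/-- sections over `U` -/
noncomputable abbrev Γ (J : GrothendieckTopology C) (U : C) :
    Sheaf J AddCommGrpCat.{u} ⥤ AddCommGrpCat.{u} :=
  sheafToPresheaf J AddCommGrpCat.{u} ⋙ (evaluation _ _).obj (op U)

instance (U : C) : (Γ J U).Additive where

lemma sections_eq_zero {F : Sheaf J AddCommGrpCat.{u}} (hF : IsZero F) (U : C)
    (s : F.obj.obj (op U)) : s = 0 := by
  have h : IsZero ((Γ J U).obj F) := (Γ J U).map_isZero hF
  have h1 : 𝟙 ((Γ J U).obj F) = 0 := h.eq_of_src _ _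
  have := ConcreteCategory.congr_hom h1 s
  simpa using this

lemma isZero_of_sections (F : Sheaf J AddCommGrpCat.{u})
    (h : ∀ (U : C) (s : F.obj.obj (op U)), s = 0) : IsZero F := by
  rw [IsZero.iff_id_eq_zero]
  apply Sheaf.hom_ext
  ext U s
  obtain ⟨U⟩ := U
  exact (h U _).trans (h U _).symm

lemma injective_of_mono {F G : Sheaf J AddCommGrpCat.{u}} (φ : F ⟶ G) [Mono φ] (U : C) :
    Function.Injective (φ.hom.app (op U)) := by
  have : Mono ((Γ J U).map φ) := inferInstance
  exact (AddCommGrpCat.mono_iff_injective _).1 this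

lemma exists_cover_of_epi {F G : Sheaf J AddCommGrpCat.{u}} (φ : F ⟶ G) [Epi φ] (U : C)
    (t : G.obj.obj (op U)) :
    ∃ S : Sieve U, S ∈ J U ∧ ∀ (V : C) (g : V ⟶ U), S g →
      ∃ s : F.obj.obj (op V), φ.hom.app (op V) s = G.obj.map g.op t := by
  have h : Sheaf.IsLocallySurjective φ := (Sheaf.isLocallySurjective_iff_epi' (φ := φ)).2 inferInstance
  refine ⟨_, Presheaf.imageSieve_mem J φ.hom t, ?_⟩
  intro V g hg
  exact hg

/-- **Local exactness**: a cycle of an exact complex of sheaves is locally a boundary. -/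
lemma exists_cover_of_exact (S : ShortComplex (Sheaf J AddCommGrpCat.{u})) (hS : S.Exact) (U : C)
    (y : S.X₂.obj.obj (op U)) (hy : S.g.hom.app (op U) y = 0) :
    ∃ T : Sieve U, T ∈ J U ∧ ∀ (V : C) (g : V ⟶ U), T g →
      ∃ x : S.X₁.obj.obj (op V), S.f.hom.app (op V) x = S.X₂.obj.map g.op y := by
  -- lift `y` to the cycles
  have hex : (ShortComplex.mk S.iCycles S.g S.iCycles_g).Exact :=
    ShortComplex.exact_of_f_is_kernel _ S.cyclesIsKernel
  have hex' := hex.map_of_mono_of_preservesKernel (Γ J U) (by dsimp; infer_instance) inferInstance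
  obtain ⟨z, hz⟩ := (ShortComplex.ab_exact_iff _).1 hex' y hy
  change S.cycles.obj.obj (op U) at z
  change S.iCycles.hom.app (op U) z = y at hz
  have : Epi S.toCycles := S.exact_iff_epi_toCycles.1 hS
  obtain ⟨T, hT, h⟩ := exists_cover_of_epi S.toCycles U z
  refine ⟨T, hT, fun V g hg => ?_⟩
  obtain ⟨x, hx⟩ := h V g hg
  refine ⟨x, ?_⟩
  have h1 : S.f.hom.app (op V) x = S.iCycles.hom.app (op V) (S.toCycles.hom.app (op V) x) := by
    have := congrArg (fun (t : S.X₁ ⟶ S.X₂) => t.hom.app (op V) x) S.toCycles_i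
    exact this.symm
  rw [h1, hx, ← hz]
  exact ConcreteCategory.congr_hom (S.iCycles.hom.naturality g.op) z

end Groth.Agent.Lib.Helper74.CmpSit
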