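import Groth.Prelude.Def_SiteCmp
import Groth.Agent.Lib.Helper26.OverMapLan
import Groth.Agent.Lib.Helper74.CmpSit.SiteBasics
import Mathlib.CategoryTheory.Preadditive.Injective.Preserves
import Mathlib.CategoryTheory.Adjunction.Additive

/-!
# Localised sites `C/X`: restriction, relocalisation pushforward, two topologies (helper74)
-/

set_option autoImplicit false

universe u

open CategoryTheory CategoryTheory.Limits Opposite

namespace Groth.Agent.Lib.Helper74.CmpSit

variable {C : Type u} [SmallCategory C] (J : GrothendieckTopology C)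

/-- abelian sheaves on the localised site `C/X` -/
abbrev Sh (X : C) := Sheaf (J.over X) AddCommGrpCat.{u}

section Restr

variable {X Y : C} (f : X ⟶ Y)

/-- restriction along `f : X ⟶ Y` -/
noncomputable abbrev restr : Sh J Y ⥤ Sh J X := CohSite.push (J.over Y) (J.over X) (Over.map f)

/-- the relocalisation pushforward -/
noncomputable abbrev pushf : Sh J X ⥤ Sh J Y :=
  (Over.map f).sheafPushforwardCocontinuous AddCommGrpCat.{u} (J.over X) (J.over Y)

/-- the adjunction `f⁻¹ ⊣ f_*` -/
noncomputable def adjf : restr J f ⊣ pushf J f :=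
  (Over.map f).sheafAdjunctionCocontinuous AddCommGrpCat.{u} (J.over X) (J.over Y)

instance : (pushf J f).Additive := (adjf J f).right_adjoint_additive

instance : PreservesFiniteColimits (restr J f) := by
  have := (adjf J f).leftAdjoint_preservesColimits
  infer_instance

instance : PreservesFiniteLimits (restr J f) := by
  have := ((Over.map f).sheafAdjunctionContinuous AddCommGrpCat.{u} (J.over X)
    (J.over Y)).rightAdjoint_preservesLimits
  infer_instance

instance : PreservesFiniteLimits (pushf J f) := by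
  have := (adjf J f).rightAdjoint_preservesLimits
  infer_instance

/-- the presheaf-level `f_!` preserves finite limits -/
theorem preservesFiniteLimits_lan :
    PreservesFiniteLimits ((Over.map f).op.lan :
      ((Over X)ᵒᵖ ⥤ AddCommGrpCat.{u}) ⥤ ((Over Y)ᵒᵖ ⥤ AddCommGrpCat.{u})) := by
  let F : ((Over X)ᵒᵖ ⥤ AddCommGrpCat.{u}) ⥤ ((Over Y)ᵒᵖ ⥤ AddCommGrpCat.{u}) :=
    (Over.map f).op.lan
  have adj : F ⊣ _ := (Over.map f).op.lanAdjunction AddCommGrpCat.{u}
  have hadd : F.Additive := adj.left_adjoint_additive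
  have hcolim : PreservesFiniteColimits F := by
    have := adj.leftAdjoint_preservesColimits
    infer_instance
  refine ((F.preservesFiniteLimits_tfae).out 0 3).1 ?_
  intro S hS
  have h30 := (F.preservesFiniteColimits_tfae).out 3 0
  refine ⟨(h30.1 hcolim S hS).1, ?_⟩
  have := hS.mono_f
  exact Groth.Agent.Lib.Helper26.OverMapLan.mono_lan_map f S.f

/-- restriction to a localisation preserves injective abelian sheaves -/
instance : (restr J f).PreservesInjectiveObjects := by
  have hlan := preservesFiniteLimits_lan f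
  have e := Functor.sheafPullbackConstruction.sheafPullbackIso (Over.map f) AddCommGrpCat.{u}
    (J.over X) (J.over Y)
  have h1 : PreservesFiniteLimits (Functor.sheafPullbackConstruction.sheafPullback (Over.map f)
      AddCommGrpCat.{u} (J.over X) (J.over Y)) := by
    unfold Functor.sheafPullbackConstruction.sheafPullback
    have : PreservesFiniteLimits ((Over.map f).op.lan ⋙
        presheafToSheaf (J.over Y) AddCommGrpCat.{u}) :=
      comp_preservesFiniteLimits _ _
    apply comp_preservesFiniteLimits
  have h2 : PreservesFiniteLimits ((Over.map f).sheafPullback AddCommGrpCat.{u}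
      (J.over X) (J.over Y)) :=
    preservesFiniteLimits_of_natIso e.symm
  have : ((Over.map f).sheafPullback AddCommGrpCat.{u}
      (J.over X) (J.over Y)).PreservesMonomorphisms :=
    inferInstance
  exact Functor.preservesInjectiveObjects_of_adjunction_of_preservesMonomorphisms
    ((Over.map f).sheafAdjunctionContinuous AddCommGrpCat.{u}
      (J.over X) (J.over Y))

end Restr

section Unit

variable {X Y : C} (f : X ⟶ Y)

/-- the sieve on `Z : Over Y` of arrows factoring through an object coming from `Over X` -/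
def thruSieve (Z : Over Y) : Sieve Z where
  arrows T g := ∃ (T' : Over X) (e : T ⟶ (Over.map f).obj T') (φ : (Over.map f).obj T' ⟶ Z),
    e ≫ φ = g
  downward_closed := by
    rintro T T₁ g ⟨T', e, φ, rfl⟩ k
    exact ⟨T', k ≫ e, φ, by simp⟩

lemma thruSieve_mem (hf : Sieve.ofArrows (fun _ : PUnit.{u + 1} => X) (fun _ => f) ∈ J Y)
    (Z : Over Y) : thruSieve f Z ∈ J.over Y Z := by
  rw [GrothendieckTopology.mem_over_iff]
  refine J.superset_covering ?_ (J.pullback_stable Z.hom hf)
  intro T₀ a ha
  rw [Sieve.pullback_apply, Sieve.mem_ofArrows_iff] at ha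
  obtain ⟨_, t, ht⟩ := ha
  rw [Sieve.overEquiv_iff]
  refine ⟨Over.mk t, Over.homMk (𝟙 _) (by simp [ht]), Over.homMk a (by simp [ht]), ?_⟩
  ext
  simp

/-- the unit of the presheaf-level adjunction `f^p ⊣ Ran`, with a convenient type -/
noncomputable def ranUnit (P : (Over Y)ᵒᵖ ⥤ AddCommGrpCat.{u}) :
    P ⟶ (Over.map f).op.ran.obj ((Over.map f).op ⋙ P) :=
  ((Over.map f).op.ranAdjunction AddCommGrpCat.{u}).unit.app P

lemma ranUnit_app_eq_zero_iff (P : (Over Y)ᵒᵖ ⥤ AddCommGrpCat.{u}) (Z : Over Y)
    (s : P.obj (op Z)) :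
    (ranUnit f P).app (op Z) s = 0 ↔
      ∀ (T' : Over X) (φ : (Over.map f).obj T' ⟶ Z), P.map φ.op s = 0 := by
  have key : ∀ (T' : Over X) (φ : (Over.map f).obj T' ⟶ Z),
      (ranUnit f P).app (op Z) ≫ ((Over.map f).op.ran.obj ((Over.map f).op ⋙ P)).map φ.op ≫
        ((Over.map f).op.ranCounit.app ((Over.map f).op ⋙ P)).app (op T') =
      P.map φ.op := by
    intro T' φ
    have h1 : P.map φ.op ≫ (ranUnit f P).app (op ((Over.map f).obj T')) =
        (ranUnit f P).app (op Z) ≫ ((Over.map f).op.ran.obj ((Over.map f).op ⋙ P)).map φ.op :=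
      (ranUnit f P).naturality φ.op
    have h2 : (ranUnit f P).app (op ((Over.map f).obj T')) ≫
        ((Over.map f).op.ranCounit.app ((Over.map f).op ⋙ P)).app (op T') = 𝟙 _ :=
      (Over.map f).op.ranCounit_app_app_ranAdjunction_unit_app_app
        (H := AddCommGrpCat.{u}) P (op T')
    calc (ranUnit f P).app (op Z) ≫
          ((Over.map f).op.ran.obj ((Over.map f).op ⋙ P)).map φ.op ≫
          ((Over.map f).op.ranCounit.app ((Over.map f).op ⋙ P)).app (op T')
        = ((ranUnit f P).app (op Z) ≫
            ((Over.map f).op.ran.obj ((Over.map f).op ⋙ P)).map φ.op) ≫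
          ((Over.map f).op.ranCounit.app ((Over.map f).op ⋙ P)).app (op T') :=
          (Category.assoc _ _ _).symm
      _ = (P.map φ.op ≫ (ranUnit f P).app (op ((Over.map f).obj T'))) ≫
          ((Over.map f).op.ranCounit.app ((Over.map f).op ⋙ P)).app (op T') := by rw [h1]
      _ = P.map φ.op ≫ ((ranUnit f P).app (op ((Over.map f).obj T')) ≫
          ((Over.map f).op.ranCounit.app ((Over.map f).op ⋙ P)).app (op T')) :=
          Category.assoc _ _ _
      _ = P.map φ.op ≫ 𝟙 _ := by rw [h2]
      _ = P.map φ.op := Category.comp_id _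
  have key' : ∀ (T' : Over X) (φ : (Over.map f).obj T' ⟶ Z),
      ((Over.map f).op.ranCounit.app ((Over.map f).op ⋙ P)).app (op T')
        (((Over.map f).op.ran.obj ((Over.map f).op ⋙ P)).map φ.op
          ((ranUnit f P).app (op Z) s)) =
      P.map φ.op s := by
    intro T' φ
    have := ConcreteCategory.congr_hom (key T' φ) s
    simpa only [ConcreteCategory.comp_apply] using this
  constructor
  · intro hs T' φ
    rw [← key' T' φ, hs, map_zero, map_zero]
  · intro hs
    have hlim := (Over.map f).op.isPointwiseRightKanExtensionRanCounit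
      ((Over.map f).op ⋙ P) (op Z)
    refine Concrete.isLimit_ext _ hlim _ _ ?_
    intro j
    refine Eq.trans ?_ (map_zero _).symm
    exact (key' j.right.unop j.hom.unop).trans (hs j.right.unop j.hom.unop)

variable (M : Sh J Y)

/-- the unit of `f⁻¹ ⊣ f_*` on sections -/
lemma unit_app_eq_zero_iff (Z : Over Y) (s : M.obj.obj (op Z)) :
    ((adjf J f).unit.app M).hom.app (op Z) s = 0 ↔
      ∀ (T' : Over X) (φ : (Over.map f).obj T' ⟶ Z), M.obj.map φ.op s = 0 := by
  have hu : ((adjf J f).unit.app M).hom = ranUnit f M.obj :=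
    (Over.map f).sheafAdjunctionCocontinuous_unit_app_hom AddCommGrpCat.{u} (J.over X)
      (J.over Y) M
  refine Iff.trans ?_ (ranUnit_app_eq_zero_iff f M.obj Z s)
  rw [hu]
  exact Iff.rfl

lemma eq_zero_of_mono_unit [Mono ((adjf J f).unit.app M)] (Z : Over Y) (s : M.obj.obj (op Z))
    (h : ∀ (T' : Over X) (φ : (Over.map f).obj T' ⟶ Z), M.obj.map φ.op s = 0) : s = 0 := by
  have h1 := (unit_app_eq_zero_iff J f M Z s).2 h
  apply injective_of_mono ((adjf J f).unit.app M) Z
  rw [h1, map_zero]

end Unit

section Detect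

variable {J} {X Y : C} (f : X ⟶ Y) (J₀ : GrothendieckTopology C)

/-- a morphism of abelian sheaves which is injective on all sections is a monomorphism -/
lemma mono_of_sections {F G : Sheaf J AddCommGrpCat.{u}} (φ : F ⟶ G)
    (h : ∀ (U : C) (s : F.obj.obj (op U)), φ.hom.app (op U) s = 0 → s = 0) : Mono φ := by
  have : ∀ U : Cᵒᵖ, Mono (φ.hom.app U) := by
    intro U
    rw [AddCommGrpCat.mono_iff_injective]
    exact (injective_iff_map_eq_zero _).2 (h U.unop)
  have : Mono φ.hom := NatTrans.mono_of_mono_app φ.hom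
  exact Sheaf.Hom.mono_of_presheaf_mono _ _ φ

/-- If `f` is a covering for the finer topology `J₀` and the `J`-sheaf `M` satisfies the sheaf
condition for `J₀`, then `M ⟶ f_* f⁻¹ M` is a monomorphism. -/
lemma mono_unit_of_isSheaf
    (hf : Sieve.ofArrows (fun _ : PUnit.{u + 1} => X) (fun _ => f) ∈ J₀ Y)
    (M : Sh J Y) (hM : Presheaf.IsSheaf (J₀.over Y) M.obj) :
    Mono ((adjf J f).unit.app M) := by
  apply mono_of_sections
  intro Z s hs
  rw [unit_app_eq_zero_iff] at hs
  refine eq_zero_of_cover_of_isSheaf hM s (thruSieve f Z) (thruSieve_mem J₀ f hf Z) ?_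
  rintro T g ⟨T', e, φ, rfl⟩
  rw [op_comp, Functor.map_comp, ConcreteCategory.comp_apply, hs T' φ, map_zero]

/-- **Detection**: a subsheaf `N` of a sheaf `M` satisfying the `J₀`-sheaf condition is zero as
soon as its restriction along a `J₀`-covering `f` is zero. -/
lemma isZero_of_restr_isZero
    (hf : Sieve.ofArrows (fun _ : PUnit.{u + 1} => X) (fun _ => f) ∈ J₀ Y)
    {N M : Sh J Y} (i : N ⟶ M) [Mono i] (hM : Presheaf.IsSheaf (J₀.over Y) M.obj)
    (hN : IsZero ((restr J f).obj N)) : IsZero N := by
  apply isZero_of_sections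
  intro Z s
  apply injective_of_mono i Z
  rw [map_zero]
  refine eq_zero_of_cover_of_isSheaf hM _ (thruSieve f Z) (thruSieve_mem J₀ f hf Z) ?_
  rintro T g ⟨T', e, φ, rfl⟩
  have h0 : N.obj.map φ.op s = 0 := sections_eq_zero hN T' _
  have h1 : M.obj.map φ.op (i.hom.app (op Z) s) = i.hom.app _ (N.obj.map φ.op s) :=
    (ConcreteCategory.congr_hom (i.hom.naturality φ.op) s).symm
  rw [op_comp, Functor.map_comp, ConcreteCategory.comp_apply, h1, h0, map_zero, map_zero]

end Detect

section Eps

variable {D : Type u} [SmallCategory D] {K K' : GrothendieckTopology D} (h : K' ≤ K)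

/-- `ε⁻¹` as sheafification of the underlying presheaf -/
noncomputable abbrev epsInv' : Sheaf K' AddCommGrpCat.{u} ⥤ Sheaf K AddCommGrpCat.{u} :=
  sheafToPresheaf K' AddCommGrpCat.{u} ⋙ presheafToSheaf K AddCommGrpCat.{u}

/-- the adjunction `ε⁻¹ ⊣ ε_*` with the explicit left adjoint -/
noncomputable def epsAdj' : epsInv' (K := K) (K' := K') ⊣ SiteCmp.epsSh h AddCommGrpCat.{u} :=
  (sheafificationAdjunction K AddCommGrpCat.{u}).restrictFullyFaithful
    (fullyFaithfulSheafToPresheaf K' AddCommGrpCat.{u}) (Functor.FullyFaithful.id _)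
    (Functor.rightUnitor _).symm
    (NatIso.ofComponents (fun G => NatIso.ofComponents (fun U => Iso.refl _)
      (fun f => (Category.comp_id _).trans (Category.id_comp _).symm)) (fun f => by
        ext U : 2
        exact (Category.comp_id _).trans (Category.id_comp _).symm))

instance : (SiteCmp.epsSh h AddCommGrpCat.{u}).PreservesInjectiveObjects :=
  Functor.preservesInjectiveObjects_of_adjunction_of_preservesMonomorphisms (epsAdj' h)

end Eps

end Groth.Agent.Lib.Helper74.CmpSit
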