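import Groth.Agent.Lib.Helper74.CmpSit.CohCompare
import Groth.Agent.Lib.Helper74.CmpSit.AcyclicHomology

/-!
# Higher direct images along relocalisation and change of topology (helper74)
-/

set_option autoImplicit false

universe u

open CategoryTheory CategoryTheory.Limits Opposite HomologicalComplex

namespace Groth.Agent.Lib.Helper74.CmpSit

section

variable {C : Type u} [SmallCategory C] {J J' : GrothendieckTopology C} (h : J' ≤ J)
  {X Y : C} (f : X ⟶ Y)

/-- `f_{τ',*} ε_{X,*} ≅ ε_{Y,*} f_{τ,*}` -/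
noncomputable def pushEpsIso :
    epsX h X ⋙ pushf J' f ≅ pushf J f ⋙ epsX h Y := Iso.refl _

instance : (pushf J f).PreservesInjectiveObjects :=
  Functor.preservesInjectiveObjects_of_adjunction_of_preservesMonomorphisms (adjf J f)

/-- **Base change for change of topology**: `Rⁱ f_{τ',*} (ε_X F) ≅ ε_Y (Rⁱ f_{τ,*} F)` under
acyclicity hypotheses. -/
theorem rightDerived_push_eps_iso (F : Sh J X)
    (hvanX : ∀ i, 1 ≤ i → IsZero (((epsX h X).rightDerived i).obj F))
    (Q : ObjectProperty (Sh J' Y)) [Q.IsClosedUnderIsomorphisms]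
    (hQ : ∀ i, Q (((pushf J' f).rightDerived i).obj ((epsX h X).obj F)))
    (hacyc : ∀ N, Q ((epsX h Y).obj N) →
      ∀ i, 1 ≤ i → IsZero (((epsX h Y).rightDerived i).obj N)) (i : ℕ) :
    Nonempty (((pushf J' f).rightDerived i).obj ((epsX h X).obj F) ≅
      (epsX h Y).obj (((pushf J f).rightDerived i).obj F)) := by
  let I := injectiveResolution F
  have hvan' : ∀ n, IsZero ((epsCx (SiteCmp.over_le h X) I.cocomplex).homology (n + 1)) :=
    fun n => (hvanX (n + 1) (by omega)).of_iso
      (I.isoRightDerivedObj (epsX h X) (n + 1)).symm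
  let I' := epsRes (SiteCmp.over_le h X) I hvan'
  let M : CochainComplex (Sh J Y) ℕ :=
    ((pushf J f).mapHomologicalComplex (ComplexShape.up ℕ)).obj I.cocomplex
  have hM : ∀ q, Injective (M.X q) := fun q =>
    (pushf J f).injective_obj (I.cocomplex.X q)
  let eCx : ((pushf J' f).mapHomologicalComplex (ComplexShape.up ℕ)).obj I'.cocomplex ≅
      mapCx (epsX h Y) M :=
    HomologicalComplex.Hom.isoOfComponents
      (fun q => (pushEpsIso h f).app (I.cocomplex.X q))
      (fun a b _ => ((pushEpsIso h f).hom.naturality (I.cocomplex.d a b)).symm)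
  have e : ∀ j, ((pushf J' f).rightDerived j).obj ((epsX h X).obj F) ≅
      (mapCx (epsX h Y) M).homology j := fun j =>
    I'.isoRightDerivedObj (pushf J' f) j ≪≫
      (HomologicalComplex.homologyFunctor _ _ j).mapIso eCx
  have hQ' : ∀ j, Q ((mapCx (epsX h Y) M).homology j) := fun j => Q.prop_of_iso (e j) (hQ j)
  obtain ⟨-, ⟨c⟩⟩ := acyc_cycles_and_homology_iso (ε := epsX h Y) M hM Q hQ' hacyc i
  exact ⟨e i ≪≫ c ≪≫ (epsX h Y).mapIso (I.isoRightDerivedObj (pushf J f) i).symm⟩

end

end Groth.Agent.Lib.Helper74.CmpSit
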