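import Groth.Agent.Lib.Helper74.CmpSit.OverSite
import Groth.Agent.Lib.Helper74.CmpSit.TheoremA
import Groth.Agent.Lib.Helper5.SiteCoh
import Groth.Prelude.Def_RDer
import Mathlib.CategoryTheory.Comma.Over.Pullback
import Mathlib.CategoryTheory.Adjunction.Whiskering
import Mathlib.CategoryTheory.Adjunction.Opposites
import Mathlib.CategoryTheory.Sites.LocallyInjective
import Groth.Agent.S0483

/-!
# Higher direct images along a localisation morphism with fibre products, and the `θ`-lemma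
(helper74)
-/

set_option autoImplicit false

universe v v' u u'

open CategoryTheory CategoryTheory.Limits Opposite HomologicalComplex

namespace Groth.Agent.Lib.Helper74.CmpSit

section MapRes

variable {𝒜 : Type u} [Category.{v} 𝒜] [Abelian 𝒜] {ℬ : Type u'} [Category.{v'} ℬ] [Abelian ℬ]
  (L : 𝒜 ⥤ ℬ) [L.Additive] [PreservesFiniteLimits L] [PreservesFiniteColimits L]
  [L.PreservesInjectiveObjects]

/-- an exact functor preserving injectives maps injective resolutions to injective resolutions -/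
noncomputable def mapRes {Z : 𝒜} (I : InjectiveResolution Z) : InjectiveResolution (L.obj Z) where
  cocomplex := (L.mapHomologicalComplex _).obj I.cocomplex
  injective n := L.injective_obj _
  ι := (HomologicalComplex.singleMapHomologicalComplex L _ 0).inv.app Z ≫
    (L.mapHomologicalComplex _).map I.ι
  quasiIso := inferInstance

variable [HasInjectiveResolutions 𝒜] [HasInjectiveResolutions ℬ]
  {𝒞 : Type*} [Category 𝒞] [Abelian 𝒞] (Φ : ℬ ⥤ 𝒞) [Φ.Additive]

/-- `Rⁿ Φ (L Z) ≅ Rⁿ (L ⋙ Φ) Z` for `L` exact and preserving injectives -/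
noncomputable def rightDerivedPrecompIso (Z : 𝒜) (n : ℕ) :
    (Φ.rightDerived n).obj (L.obj Z) ≅ ((L ⋙ Φ).rightDerived n).obj Z :=
  let I := injectiveResolution Z
  (mapRes L I).isoRightDerivedObj Φ n ≪≫
    (HomologicalComplex.homologyFunctor _ _ n).mapIso
      (HomologicalComplex.Hom.isoOfComponents (fun i => Iso.refl _)
        (fun i j _ => (Category.id_comp _).trans (Category.comp_id _).symm) :
        (Φ.mapHomologicalComplex _).obj (mapRes L I).cocomplex ≅
          ((L ⋙ Φ).mapHomologicalComplex _).obj I.cocomplex) ≪≫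
    (I.isoRightDerivedObj (L ⋙ Φ) n).symm

end MapRes

section Identify

variable {C : Type u} [SmallCategory C] (J : GrothendieckTopology C) {X Y : C} (f : X ⟶ Y)
  [HasPullbacksAlong f]

/-- `V ↦ V ×_Y X` as an endofunctor of `C/Y` -/
noncomputable abbrev BC : Over Y ⥤ Over Y := Over.pullback f ⋙ Over.map f

/-- right Kan extension along `(C/X)ᵒᵖ ⥤ (C/Y)ᵒᵖ` is precomposition with the base change -/
noncomputable def ranIso :
    ((Over.map f).op.ran : ((Over X)ᵒᵖ ⥤ AddCommGrpCat.{u}) ⥤ ((Over Y)ᵒᵖ ⥤ AddCommGrpCat.{u})) ≅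
      (Functor.whiskeringLeft _ _ AddCommGrpCat.{u}).obj (Over.pullback f).op :=
  Adjunction.rightAdjointUniq ((Over.map f).op.ranAdjunction AddCommGrpCat.{u})
    (Adjunction.whiskerLeft AddCommGrpCat.{u} (Over.mapPullbackAdj f).op)

/-- precomposition with the base change followed by sheafification -/
noncomputable abbrev EBC : ((Over Y)ᵒᵖ ⥤ AddCommGrpCat.{u}) ⥤ Sh J Y :=
  (Functor.whiskeringLeft _ _ AddCommGrpCat.{u}).obj (Over.map f).op ⋙
    (Functor.whiskeringLeft _ _ AddCommGrpCat.{u}).obj (Over.pullback f).op ⋙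
      presheafToSheaf (J.over Y) AddCommGrpCat.{u}

instance : (EBC J f).Additive := by
  dsimp only [EBC]
  infer_instance

instance : PreservesFiniteLimits (EBC J f) := by
  dsimp only [EBC]
  infer_instance

instance : PreservesFiniteColimits (EBC J f) := by
  dsimp only [EBC]
  infer_instance

/-- sheafification of the underlying presheaf of a sheaf -/
noncomputable def sheafifyCounitIso (K : GrothendieckTopology (Over Y)) :
    sheafToPresheaf K AddCommGrpCat.{u} ⋙ presheafToSheaf K AddCommGrpCat.{u} ≅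
      𝟭 (Sheaf K AddCommGrpCat.{u}) :=
  haveI : IsIso (sheafificationAdjunction K AddCommGrpCat.{u}).counit :=
    NatIso.isIso_of_isIso_app _
  asIso (sheafificationAdjunction K AddCommGrpCat.{u}).counit

/-- `f_* f⁻¹` is the forgetful functor followed by `EBC` -/
noncomputable def restrPushIso :
    restr J f ⋙ pushf J f ≅ sheafToPresheaf (J.over Y) AddCommGrpCat.{u} ⋙ EBC J f :=
  (restr J f ⋙ pushf J f).rightUnitor.symm ≪≫
    Functor.isoWhiskerLeft (restr J f ⋙ pushf J f) (sheafifyCounitIso (J.over Y)).symm ≪≫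
    (Functor.associator _ _ _).symm ≪≫
    Functor.isoWhiskerRight
      ((Iso.refl _ : (restr J f ⋙ pushf J f) ⋙ sheafToPresheaf (J.over Y) AddCommGrpCat.{u} ≅
        sheafToPresheaf (J.over Y) AddCommGrpCat.{u} ⋙
          (Functor.whiskeringLeft _ _ AddCommGrpCat.{u}).obj (Over.map f).op ⋙
            (Over.map f).op.ran) ≪≫
        Functor.isoWhiskerLeft (sheafToPresheaf (J.over Y) AddCommGrpCat.{u})
          (Functor.isoWhiskerLeft
            ((Functor.whiskeringLeft _ _ AddCommGrpCat.{u}).obj (Over.map f).op) (ranIso f)))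
      (presheafToSheaf (J.over Y) AddCommGrpCat.{u}) ≪≫
    Functor.associator _ _ _

/-- **Higher direct images as sheafified cohomology** along a localisation morphism with fibre
products: `Rⁿ f_* (f⁻¹ F') ≅ (V ↦ Hⁿ(V ×_Y X, F'))^#`. -/
theorem rightDerived_push_restr_iso (F' : Sh J Y) (n : ℕ) :
    Nonempty (((pushf J f).rightDerived n).obj ((restr J f).obj F') ≅
      (presheafToSheaf (J.over Y) AddCommGrpCat.{u}).obj
        ((BC f).op ⋙ Sheaf.cohomologyPresheaf.{u} F' n)) := by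
  obtain ⟨e⟩ := Groth.Agent.Lib.Helper5.SiteCoh.rightDerived_sheafToPresheaf_iso n F'
  haveI : (EBC J f).PreservesHomology := Groth.Agent.Lib.Helper5.preservesHomology_of_exact _
  exact ⟨rightDerivedPrecompIso (restr J f) (pushf J f) F' n ≪≫
    (RDer.rightDerivedIso (restrPushIso J f) n).app F' ≪≫
    Groth.Agent.Lib.Helper5.rightDerivedCompExactIso
      (sheafToPresheaf (J.over Y) AddCommGrpCat.{u}) (EBC J f) F' n ≪≫ (EBC J f).mapIso e⟩

end Identify

section Chase

variable {D : Type u} [SmallCategory D] {K K' : GrothendieckTopology D}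
  (𝓗 : Dᵒᵖ ⥤ AddCommGrpCat.{u})
  (hloc : ∀ (U : D) (ξ : 𝓗.obj (op U)), ∃ S : Sieve U, S ∈ K' U ∧
    ∀ (V : D) (c : V ⟶ U), S c → 𝓗.map c.op ξ = 0)
  (B : D ⥤ D) (pr : B ⟶ 𝟭 D)
  (hℛ : Presheaf.IsSheaf K ((presheafToSheaf K' AddCommGrpCat.{u}).obj (B.op ⋙ 𝓗)).obj)
  {𝕏 T : D} (t : 𝕏 ⟶ T)
  (ht : Sieve.ofArrows (fun _ : PUnit.{u + 1} => 𝕏) (fun _ => t) ∈ K T)
  (θ₀ : 𝓗.obj (op 𝕏)) (θ' : 𝓗.obj (op (B.obj T)))
  (hθ : 𝓗.map (B.map t).op θ' = 𝓗.map (pr.app 𝕏).op θ₀)

include hloc hℛ ht hθ in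
/-- **The chase**: a class on `T × X` whose restriction to `𝕏 × X` is pulled back from `𝕏` dies
on a `K'`-covering of `T`. -/
theorem chase : ∃ S' : Sieve T, S' ∈ K' T ∧
    ∀ (V : D) (g : V ⟶ T), S' g → 𝓗.map (B.map g).op θ' = 0 := by
  let ℛ := (presheafToSheaf K' AddCommGrpCat.{u}).obj (B.op ⋙ 𝓗)
  let lam : B.op ⋙ 𝓗 ⟶ ℛ.obj := toSheafify K' (B.op ⋙ 𝓗)
  have hnat : ∀ {U V : D} (c : V ⟶ U) (x : 𝓗.obj (op (B.obj U))),
      ℛ.obj.map c.op (lam.app (op U) x) = lam.app (op V) (𝓗.map (B.map c).op x) := by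
    intro U V c x
    exact (ConcreteCategory.congr_hom (lam.naturality c.op) x).symm
  -- the image of `θ'`
  have h0 : lam.app (op T) θ' = 0 := by
    refine eq_zero_of_cover_of_isSheaf hℛ _ _ ht ?_
    intro V g hg
    rw [Sieve.mem_ofArrows_iff] at hg
    obtain ⟨_, a, rfl⟩ := hg
    rw [op_comp, Functor.map_comp, ConcreteCategory.comp_apply]
    suffices h1 : ℛ.obj.map t.op (lam.app (op T) θ') = 0 by
      rw [h1, map_zero]
    rw [hnat, hθ]
    obtain ⟨S, hS, hS0⟩ := hloc 𝕏 θ₀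
    refine eq_zero_of_cover ℛ _ S hS ?_
    intro V' c hc
    have h3 : 𝓗.map (B.map c).op (𝓗.map (pr.app 𝕏).op θ₀) = 0 := by
      have h2 : B.map c ≫ pr.app 𝕏 = pr.app V' ≫ c := pr.naturality c
      have h4 : 𝓗.map (B.map c).op (𝓗.map (pr.app 𝕏).op θ₀) =
          𝓗.map (pr.app V').op (𝓗.map c.op θ₀) := by
        rw [← ConcreteCategory.comp_apply, ← ConcreteCategory.comp_apply, ← Functor.map_comp,
          ← Functor.map_comp, ← op_comp, ← op_comp, h2]
      rw [h4, hS0 V' c hc, map_zero]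
    rw [hnat, h3, map_zero]
  have h1 : lam.app (op T) θ' = lam.app (op T) 0 := by rw [h0, map_zero]
  refine ⟨_, Presheaf.equalizerSieve_mem K' lam θ' 0 h1, ?_⟩
  intro V g hg
  have h2 : (B.op ⋙ 𝓗).map g.op θ' = (B.op ⋙ 𝓗).map g.op 0 := hg
  rw [map_zero] at h2
  exact h2

end Chase

section Theta

variable {C : Type u} [SmallCategory C] {J J' : GrothendieckTopology C} {X Y : C} (f : X ⟶ Y)
  [HasPullbacksAlong f]
  (hcov : Sieve.ofArrows (fun _ : PUnit.{u + 1} => X) (fun _ => f) ∈ J Y)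
  (F' : Sh J' Y) (n : ℕ)
  (hℛ : ∀ G : Sh J' Y,
    Nonempty (G ≅ ((pushf J' f).rightDerived (n + 1)).obj ((restr J' f).obj F')) →
      Presheaf.IsSheaf (J.over Y) G.obj)
  (θ : CohSite.HU F' (n + 1) (Over.mk f))
  (hθ : ∀ (W : C) (p q : W ⟶ X) (hW : IsPullback p q f f),
    CohSite.res F' (n + 1) (Over.homMk p rfl : Over.mk (p ≫ f) ⟶ Over.mk f) θ =
      CohSite.res F' (n + 1) (Over.homMk q hW.w.symm : Over.mk (p ≫ f) ⟶ Over.mk f) θ)

include hcov hℛ hθ in
/-- **The `θ`-lemma** (Stacks 21.30, part of the induction step). -/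
theorem theta_lemma :
    ∃ (ι : Type u) (Z : ι → C) (g : ∀ i, Z i ⟶ Y), Sieve.ofArrows Z g ∈ J' Y ∧
      ∀ (i : ι) (W : C) (p : W ⟶ Z i) (q : W ⟶ X), IsPullback p q (g i) f →
        CohSite.res F' (n + 1) (Over.homMk q rfl : Over.mk (q ≫ f) ⟶ Over.mk f) θ = 0 := by
  let 𝓗 : (Over Y)ᵒᵖ ⥤ AddCommGrpCat.{u} := Sheaf.cohomologyPresheaf.{u} F' (n + 1)
  obtain ⟨e⟩ := rightDerived_push_restr_iso J' f F' (n + 1)
  have hℛ' : Presheaf.IsSheaf (J.over Y)
      ((presheafToSheaf (J'.over Y) AddCommGrpCat.{u}).obj ((BC f).op ⋙ 𝓗)).obj :=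
    hℛ _ ⟨e.symm⟩
  have hloc : ∀ (U : Over Y) (ξ : 𝓗.obj (op U)), ∃ S : Sieve U, S ∈ (J'.over Y) U ∧
      ∀ (V : Over Y) (c : V ⟶ U), S c → 𝓗.map c.op ξ = 0 := by
    intro U ξ
    obtain ⟨S, hS⟩ := Groth.Agent.S0483.result (J'.over Y) F' U n ξ
    exact ⟨S.1, S.2, fun V c hc => hS ⟨V, c, hc⟩⟩
  let T : Over Y := Over.mk (𝟙 Y)
  let 𝕏 : Over Y := Over.mk f
  let t : 𝕏 ⟶ T := Over.homMk f
  have ht : Sieve.ofArrows (fun _ : PUnit.{u + 1} => 𝕏) (fun _ => t) ∈ (J.over Y) T := by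
    rw [GrothendieckTopology.mem_over_iff, Sieve.overEquiv_ofArrows]
    exact hcov
  let uu : (BC f).obj T ⟶ 𝕏 := Over.homMk (pullback.snd T.hom f) rfl
  let θ' : 𝓗.obj (op ((BC f).obj T)) := 𝓗.map uu.op θ
  have hθ' : 𝓗.map ((BC f).map t).op θ' =
      𝓗.map ((Over.mapPullbackAdj f).counit.app 𝕏).op θ := by
    have hW := IsPullback.of_hasPullback f f
    have key := hθ (pullback f f) (pullback.fst f f) (pullback.snd f f) hW
    let e' : (BC f).obj 𝕏 ⟶ Over.mk (pullback.fst f f ≫ f) :=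
      Over.homMk (𝟙 _) (by simp [𝕏, pullback.condition])
    have h1 : (BC f).map t ≫ uu = e' ≫ (Over.homMk (pullback.snd f f) hW.w.symm :
        Over.mk (pullback.fst f f ≫ f) ⟶ Over.mk f) := by
      ext
      simp [uu, e', t, 𝕏]
      exact pullback.lift_snd _ _ _
    have h2 : (Over.mapPullbackAdj f).counit.app 𝕏 = e' ≫ (Over.homMk (pullback.fst f f) rfl :
        Over.mk (pullback.fst f f ≫ f) ⟶ Over.mk f) := by
      ext
      simp [e', 𝕏]
    show 𝓗.map ((BC f).map t).op (𝓗.map uu.op θ) = _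
    rw [← ConcreteCategory.comp_apply, ← Functor.map_comp, ← op_comp, h1, h2, op_comp, op_comp,
      Functor.map_comp, Functor.map_comp, ConcreteCategory.comp_apply,
      ConcreteCategory.comp_apply]
    exact congrArg _ key.symm
  obtain ⟨S', hS', hS'0⟩ := chase 𝓗 hloc (BC f) (Over.mapPullbackAdj f).counit hℛ' t ht θ θ' hθ'
  rw [GrothendieckTopology.mem_over_iff] at hS'
  refine ⟨Σ V : C, {g : V ⟶ Y // (Sieve.overEquiv T S') g}, fun i => i.1, fun i => i.2.1, ?_, ?_⟩
  · refine J'.superset_covering ?_ hS'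
    intro V g hg
    exact (Sieve.mem_ofArrows_iff _ _ _).2 ⟨⟨V, g, hg⟩, 𝟙 _, (Category.id_comp _).symm⟩
  · rintro ⟨V, g, hg⟩ W p q hW
    rw [Sieve.overEquiv_iff] at hg
    have h0 := hS'0 _ _ hg
    let V' : Over Y := Over.mk (g ≫ T.hom)
    let ψ : W ⟶ pullback V'.hom f := pullback.lift p q (by simp [hW.w, T, V'])
    have hψ : ψ ≫ pullback.snd V'.hom f = q := pullback.lift_snd _ _ _
    let b : Over.mk (q ≫ f) ⟶ (BC f).obj V' := Over.homMk ψ (by
      show ψ ≫ pullback.snd V'.hom f ≫ f = q ≫ f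
      rw [← Category.assoc, hψ])
    have hfac : (Over.homMk q rfl : Over.mk (q ≫ f) ⟶ Over.mk f) =
        b ≫ (BC f).map (Over.homMk g : V' ⟶ T) ≫ uu := by
      ext
      show q = ψ ≫ ((BC f).map (Over.homMk g : V' ⟶ T)).left ≫ pullback.snd T.hom f
      have e1 : ((BC f).map (Over.homMk g : V' ⟶ T)).left ≫ pullback.snd T.hom f =
          pullback.snd V'.hom f := pullback.lift_snd _ _ _
      rw [e1, hψ]
    show 𝓗.map (Over.homMk q rfl : Over.mk (q ≫ f) ⟶ Over.mk f).op θ = 0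
    rw [hfac, op_comp, op_comp, Functor.map_comp, Functor.map_comp, ConcreteCategory.comp_apply,
      ConcreteCategory.comp_apply]
    have h0' : 𝓗.map ((BC f).map (Over.homMk g : V' ⟶ T)).op (𝓗.map uu.op θ) = 0 := h0
    rw [h0', map_zero]

end Theta

end Groth.Agent.Lib.Helper74.CmpSit
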