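import Mathlib.Algebra.Homology.HomologySequence
import Mathlib.Algebra.Homology.ShortComplex.HomologicalComplex
import Mathlib.Algebra.Homology.HomologicalComplexAbelian
import Mathlib.CategoryTheory.Abelian.Refinements

/-!
# The zigzag lemma (helper74)

A tower of short exact sequences of cochain complexes `0 ⟶ K p ⟶ D p ⟶ K (p+1) ⟶ 0`
(a "cobar resolution").  If the `E₁`-rows `Hᵏ(D p) ⟶ Hᵏ(D (p+1)) ⟶ Hᵏ(D (p+2))` are exact for `k ≤ n`,
then `Hⁿ⁺¹(K 0) ⟶ Hⁿ⁺¹(D 0)` is a monomorphism.  This replaces the Čech-type spectral sequence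
argument of the reference.
-/

set_option autoImplicit false

universe v u

open CategoryTheory CategoryTheory.Limits HomologicalComplex

namespace Groth.Agent.Lib.Helper74.CmpSit

variable {𝒜 : Type u} [Category.{v} 𝒜] [Abelian 𝒜]

/-- if `A ⟶ B ⟶ C ⟶ D` has `b` mono, `b ≫ c = 0` and `(a ≫ b, c)` exact then `a` is epi. -/
lemma epi_of_exact_of_mono {A B C D : 𝒜} (a : A ⟶ B) (b : B ⟶ C) (c : C ⟶ D)
    (w : (a ≫ b) ≫ c = 0) (hex : (ShortComplex.mk (a ≫ b) c w).Exact) [Mono b]
    (hbc : b ≫ c = 0) : Epi a := by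
  rw [epi_iff_surjective_up_to_refinements]
  intro Z x
  obtain ⟨Z', π, hπ, y, hy⟩ := hex.exact_up_to_refinements (x ≫ b) (by
    dsimp
    rw [Category.assoc, hbc, comp_zero])
  refine ⟨Z', π, hπ, y, ?_⟩
  rw [← cancel_mono b]
  simpa using hy

/-- A tower of short exact sequences of cochain complexes. -/
structure Tower (𝒜 : Type u) [Category.{v} 𝒜] [Abelian 𝒜] where
  K : ℕ → CochainComplex 𝒜 ℕ
  D : ℕ → CochainComplex 𝒜 ℕ
  η : ∀ p, K p ⟶ D p
  π : ∀ p, D p ⟶ K (p + 1)
  zero : ∀ p, η p ≫ π p = 0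
  exact : ∀ p, (ShortComplex.mk (η p) (π p) (zero p)).ShortExact

namespace Tower

variable (T : Tower 𝒜)

/-- the `d₁`-differential `D p ⟶ D (p+1)` -/
noncomputable def d (p : ℕ) : T.D p ⟶ T.D (p + 1) := T.π p ≫ T.η (p + 1)

lemma d_comp_d (p : ℕ) : T.d p ≫ T.d (p + 1) = 0 := by
  simp only [d, Category.assoc]
  rw [reassoc_of% (T.zero (p + 1)), zero_comp, comp_zero]

lemma η_comp_d (p : ℕ) : T.η p ≫ T.d p = 0 := by
  simp only [d]
  rw [reassoc_of% (T.zero p), zero_comp]

instance mono_η (p : ℕ) : Mono (T.η p) := (T.exact p).mono_f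

instance epi_π (p : ℕ) : Epi (T.π p) := (T.exact p).epi_g

instance mono_η_f (p q : ℕ) : Mono ((T.η p).f q) := inferInstance

lemma homologyMap_d_comp (p k : ℕ) :
    homologyMap (T.d p) k ≫ homologyMap (T.d (p + 1)) k = 0 := by
  rw [← homologyMap_comp, d_comp_d, homologyMap_zero]

/-- if `Hᵏ(π_{p+1})` is epi then `Hᵏ⁺¹(η_{p+1})` is mono. -/
lemma mono_homologyMap_η_succ (p k : ℕ) (h : Epi (homologyMap (T.π p) k)) :
    Mono (homologyMap (T.η p) (k + 1)) := by
  have hex := (T.exact p).homology_exact₁ k (k + 1) rfl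
  have hδ : (T.exact p).δ k (k + 1) rfl = 0 := by
    have := (T.exact p).comp_δ k (k + 1) rfl
    dsimp at this
    rw [← cancel_epi (homologyMap (T.π p) k), this, comp_zero]
  exact hex.mono_g hδ

lemma mono_homologyMap_η_zero (p : ℕ) : Mono (homologyMap (T.η p) 0) :=
  mono_homologyMap_of_mono_of_not_rel (T.η p) 0 (by
    intro i hi
    simp at hi)

/-- The zigzag: all `Hᵏ(π p)` are epimorphisms for `k ≤ n`, provided the `E₁`-rows are exact in
cohomological degrees `≤ n`. -/
theorem epi_homologyMap_π (n : ℕ)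
    (hE : ∀ p k, k ≤ n → (ShortComplex.mk (homologyMap (T.d p) k) (homologyMap (T.d (p + 1)) k)
      (T.homologyMap_d_comp p k)).Exact) :
    ∀ k, k ≤ n → ∀ p, Epi (homologyMap (T.π p) k) := by
  intro k
  induction k with
  | zero =>
    intro _ p
    have : Mono (homologyMap (T.η (p + 1)) 0) := T.mono_homologyMap_η_zero (p + 1)
    refine epi_of_exact_of_mono (homologyMap (T.π p) 0) (homologyMap (T.η (p + 1)) 0)
      (homologyMap (T.d (p + 1)) 0) ?_ ?_ ?_
    · rw [← homologyMap_comp]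
      exact T.homologyMap_d_comp p 0
    · have := hE p 0 (Nat.zero_le _)
      simpa only [d, homologyMap_comp] using this
    · rw [← homologyMap_comp, η_comp_d, homologyMap_zero]
  | succ k ih =>
    intro hk p
    have : Mono (homologyMap (T.η (p + 1)) (k + 1)) :=
      T.mono_homologyMap_η_succ (p + 1) k (ih (by omega) (p + 1))
    refine epi_of_exact_of_mono (homologyMap (T.π p) (k + 1)) (homologyMap (T.η (p + 1)) (k + 1))
      (homologyMap (T.d (p + 1)) (k + 1)) ?_ ?_ ?_
    · rw [← homologyMap_comp]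
      exact T.homologyMap_d_comp p (k + 1)
    · have := hE p (k + 1) hk
      simpa only [d, homologyMap_comp] using this
    · rw [← homologyMap_comp, η_comp_d, homologyMap_zero]

/-- **Zigzag lemma**: `Hⁿ⁺¹(K 0) ⟶ Hⁿ⁺¹(D 0)` is a monomorphism. -/
theorem mono_homologyMap_η (n : ℕ)
    (hE : ∀ p k, k ≤ n → (ShortComplex.mk (homologyMap (T.d p) k) (homologyMap (T.d (p + 1)) k)
      (T.homologyMap_d_comp p k)).Exact) :
    Mono (homologyMap (T.η 0) (n + 1)) :=
  T.mono_homologyMap_η_succ 0 n (T.epi_homologyMap_π n hE n le_rfl 0)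

end Tower

end Groth.Agent.Lib.Helper74.CmpSit
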